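import Mathlib
import Cfsg.Agent.H8.Rank3Basic
import Cfsg.Agent.H33.FourSizesBasic
import Cfsg.Agent.H27.ConjUnion
import Cfsg.Agent.H1.Wielandt
import Cfsg.Agent.H3.TwoCentral
import Cfsg.Agent.S3922

/-!
Class sizes: general tools for groups with three class sizes different from one.
-/

set_option autoImplicit false
set_option linter.unusedSectionVars false
set_option linter.style.haveILetI false

namespace H87.ThreeSize

open Subgroup H8.Rank3 H33.FS

universe u

variable {G : Type u} [Group G] [Finite G]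

theorem cc_mul_cls (x : G) : Nat.card (Cz x) * cls x = Nat.card G := (Cz x).card_mul_index

theorem Cz_eq_of_cls {x y : G} (h : Cz x ≤ Cz y) (e : cls x = cls y) : Cz x = Cz y := by
  refine eq_of_le_of_card_ge h (le_of_eq ?_)
  have h1 := cc_mul_cls x
  rw [e, ← cc_mul_cls y] at h1
  exact (Nat.eq_of_mul_eq_mul_right (cls_pos y) h1).symm

theorem cls_ne_one (hZ : center G = ⊥) {x : G} (hx : x ≠ 1) : cls x ≠ 1 := fun h =>
  hx (Subgroup.mem_bot.1 (hZ ▸ mem_center_iff_cls.1 h))

theorem one_lt_cls (hZ : center G = ⊥) {x : G} (hx : x ≠ 1) : 1 < cls x := by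
  have := cls_ne_one hZ hx
  have := cls_pos x
  omega

theorem isSolvable_of_pGroup_quotient {p : ℕ} [Fact p.Prime] (N : Subgroup G) [N.Normal]
    (hN : Group.IsSolvable N) {k : ℕ} (hk : N.index = p ^ k) : Group.IsSolvable G := by
  haveI := (IsPGroup.of_card (G := G ⧸ N) (p := p) (n := k) hk).isNilpotent
  exact H1.isSolvable_of_normal N hN inferInstance

/-- One noncentral class size. -/
theorem isSolvable_of_one {n : ℕ} (h : ∀ x : G, x ∉ center G → cls x = n) :
    Group.IsSolvable G := by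
  by_cases hex : ∃ x : G, x ∉ center G
  · obtain ⟨x, hx⟩ := hex
    obtain ⟨p, hp, a, -, hP⟩ := H36.two_sizes_structure (G := G) (n := n)
      (fun y => by
        by_cases hy : y ∈ center G
        · exact Or.inl (mem_center_iff_cls.2 hy)
        · exact Or.inr (h y hy))
      (h x hx ▸ H27.one_lt_index_cent hx) ⟨x, h x hx⟩
    obtain ⟨P⟩ : Nonempty (Sylow p G) := inferInstance
    obtain ⟨-, ⟨N, hN, hc, hab, -⟩, -⟩ := hP P
    haveI := hN
    haveI := hp
    refine isSolvable_of_pGroup_quotient (p := p) N (Group.isSolvable_of_comm fun a b => hab.is_comm.comm a b)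
      (k := (Nat.card G).factorization p) ?_
    rw [hc.symm.index_eq_card, P.card_eq_multiplicity]
  · push Not at hex
    exact Group.isSolvable_of_comm fun a b => (mem_center_iff.1 (hex b) a)

/-- At most two noncentral class sizes. -/
theorem isSolvable_of_two {a b : ℕ} (h : ∀ x : G, x ∉ center G → cls x = a ∨ cls x = b) :
    Group.IsSolvable G := by
  by_cases ha : ∃ x : G, x ∉ center G ∧ cls x = a
  swap
  · exact isSolvable_of_one (n := b) fun x hx => (h x hx).resolve_left fun e => ha ⟨x, hx, e⟩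
  by_cases hb : ∃ x : G, x ∉ center G ∧ cls x = b
  swap
  · exact isSolvable_of_one (n := a) fun x hx => (h x hx).resolve_right fun e => hb ⟨x, hx, e⟩
  obtain ⟨x, hx, rfl⟩ := ha
  obtain ⟨y, hy, rfl⟩ := hb
  have h1 : ∀ z : G, cls z = 1 ∨ cls z = cls x ∨ cls z = cls y := fun z => by
    by_cases hz : z ∈ center G
    · exact Or.inl (mem_center_iff_cls.2 hz)
    · exact Or.inr (h z hz)
  rcases lt_trichotomy (cls x) (cls y) with hlt | he | hlt
  · exact Cfsg.Agent.S3922.result (cls y) (cls x) hlt (H27.one_lt_index_cent hx) h1 ⟨y, rfl⟩ ⟨x, rfl⟩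
  · exact isSolvable_of_one (n := cls x) fun z hz => (h z hz).elim id fun e => e.trans he.symm
  · exact Cfsg.Agent.S3922.result (cls x) (cls y) hlt (H27.one_lt_index_cent hy)
      (fun z => (h1 z).imp id Or.symm) ⟨x, rfl⟩ ⟨y, rfl⟩

/-- A Sylow subgroup and an element of prime order in its centre. -/
theorem exists_central_elem {r : ℕ} (hr : r.Prime) (h : r ∣ Nat.card G) :
    ∃ w : G, orderOf w = r ∧ ¬ r ∣ cls w := by
  haveI := Fact.mk hr
  obtain ⟨P⟩ : Nonempty (Sylow r G) := inferInstance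
  obtain ⟨w, -, hw, hle⟩ := exists_central_of_sylow h P
  exact ⟨w, hw, H27.not_dvd_index_iff.2 ⟨P, hle⟩⟩

/-- If `r` does not divide `[G : H]` then every `r`-element has a conjugate in `H`. -/
theorem exists_conj_mem {r : ℕ} [Fact r.Prime] {H : Subgroup G} (h : ¬ r ∣ H.index) {x : G} {k : ℕ}
    (hx : orderOf x = r ^ k) : ∃ g : G, g * x * g⁻¹ ∈ H := by
  obtain ⟨P, hP⟩ := H27.exists_sylow_le_of_not_dvd_index h
  obtain ⟨Q, hQ⟩ := exists_sylow_mem (x := x) hx
  obtain ⟨g, hg⟩ := MulAction.exists_smul_eq G Q P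
  refine ⟨g, hP ?_⟩
  rw [← hg, Sylow.coe_subgroup_smul]
  exact ⟨x, hQ, rfl⟩

theorem coprime_orderOf_of_prime_ne {p q : ℕ} (hp : p.Prime) (hq : q.Prime) (hne : p ≠ q) {x y : G}
    {i j : ℕ} (hx : orderOf x = p ^ i) (hy : orderOf y = q ^ j) :
    Nat.Coprime (orderOf x) (orderOf y) := by
  rw [hx, hy]; exact ((Nat.coprime_primes hp hq).2 hne).pow i j

theorem mul_ne_one {x y : G} (hc : Commute x y) (hco : Nat.Coprime (orderOf x) (orderOf y))
    (hx : x ≠ 1) : x * y ≠ 1 := by
  intro e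
  have := hc.orderOf_mul_eq_mul_orderOf_of_coprime hco
  rw [e, orderOf_one] at this
  exact hx (orderOf_eq_one_iff.1 (Nat.eq_one_of_mul_eq_one_right this.symm))

/-- A centraliser in which coprime commuting elements have equal centralisers. -/
theorem comm_or_pGroup {p : ℕ} (hp : p.Prime) {x : G} {k : ℕ} (hx : orderOf x = p ^ k) (hx1 : x ≠ 1)
    (pair : ∀ u v : G, u ∈ Cz x → v ∈ Cz x → u ≠ 1 → v ≠ 1 → Commute u v →
      Nat.Coprime (orderOf u) (orderOf v) → Cz u = Cz v) :
    IsMulCommutative (Cz x) ∨ IsPGroup p (Cz x) := by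
  by_cases hq : ∃ q : ℕ, q.Prime ∧ q ∣ cc x ∧ q ≠ p
  · left
    obtain ⟨q, hq, hqc, hqp⟩ := hq
    haveI := Fact.mk hq
    obtain ⟨⟨v0, hv0C⟩, hv0'⟩ := exists_prime_orderOf_dvd_card' (G := Cz x) q hqc
    have hv0 : orderOf v0 = q ^ 1 := by rw [← hv0', Subgroup.orderOf_mk, pow_one]
    have hv01 : v0 ≠ 1 := fun e => by
      rw [e, orderOf_one, pow_one] at hv0
      exact hq.ne_one hv0.symm
    have e0 : Cz v0 = Cz x := pair v0 x hv0C (self_mem_Cz x) hv01 hx1 (mem_Cz.1 hv0C)
      (coprime_orderOf_of_prime_ne hq hp hqp hv0 hx)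
    refine isMulCommutative_of_primePow_central fun r j hr v hv hv' => ?_
    rcases eq_or_ne v 1 with rfl | hv1
    · exact fun g _ => mem_Cz.2 (by simp)
    by_cases hrp : r = p
    · subst hrp
      have hvv : v ∈ Cz v0 := e0 ▸ hv
      rw [pair v v0 hv hv0C hv1 hv01 (mem_Cz.1 hvv)
        (coprime_orderOf_of_prime_ne hr hq (Ne.symm hqp) hv' hv0), e0]
    · rw [pair v x hv (self_mem_Cz x) hv1 hx1 (mem_Cz.1 hv)
        (coprime_orderOf_of_prime_ne hr hp hrp hv' hx)]
  · right
    push Not at hq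
    exact IsPGroup.of_card (n := (cc x).primeFactorsList.length)
      (Nat.eq_prime_pow_of_unique_prime_dvd (cc_pos x).ne' fun {d} hd hdc => hq d hd hdc)

/-- If centralisers of `2`-elements contain Sylow subgroups, involution centralisers which are
`2`-groups are abelian. -/
theorem isMulCommutative_of_twoCentral (hyp : H3.TwoCentral.Hyp G) {H : Subgroup G}
    (hH : IsPGroup 2 H) : IsMulCommutative H := by
  obtain ⟨Q, hQ⟩ := hH.exists_le_sylow
  have h := H3.TwoCentral.isMulCommutative_of_hyp hyp Q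
  exact ⟨⟨fun u v => Subtype.ext
    (congrArg Subtype.val (h.is_comm.comm ⟨u, hQ u.2⟩ ⟨v, hQ v.2⟩) : _)⟩⟩

/-- The elements of prime power order generate. -/
theorem le_of_primePow {D K : Subgroup G}
    (h : ∀ (p k : ℕ), p.Prime → ∀ w ∈ D, orderOf w = p ^ k → w ∈ K) : D ≤ K := by
  have hcard : K.subgroupOf D = ⊤ := by
    refine Subgroup.eq_top_of_le_card _ (Nat.le_of_dvd Nat.card_pos ?_)
    refine (Nat.dvd_iff_prime_pow_dvd_dvd _ _).2 fun p k hp hd => ?_
    haveI := Fact.mk hp
    obtain ⟨P⟩ : Nonempty (Sylow p D) := Sylow.nonempty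
    have hP : (P : Subgroup D) ≤ K.subgroupOf D := by
      intro v hv
      obtain ⟨j, hj⟩ := (IsPGroup.iff_orderOf.1 P.isPGroup') ⟨v, hv⟩
      rw [Subgroup.orderOf_mk] at hj
      exact h p j hp v v.2 (by rw [Subgroup.orderOf_coe, hj])
    exact (pow_dvd_sylow_card P hd).trans (Subgroup.card_dvd_of_le hP)
  exact Subgroup.subgroupOf_eq_top.1 hcard

/-- Class sizes in a normal subgroup of coprime index. -/
theorem cls_normal_hall (N : Subgroup G) [N.Normal] (hco : Nat.Coprime (Nat.card N) N.index) (x : N) :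
    cls x = Nat.gcd (cls (x : G)) (Nat.card N) := by
  have h1 : cls x ∣ cls (x : G) := H27.index_cent_normal_dvd N x
  have h2 : cls x ∣ Nat.card N := H27.index_cent_dvd_card x
  refine Nat.dvd_antisymm (Nat.dvd_gcd h1 h2) ?_
  have h3 : cls (x : G) ∣ cls x * N.index := by
    have e : Cz x = (Cz (x : G)).subgroupOf N := by
      ext y
      rw [mem_subgroupOf, mem_Cz, mem_Cz, Subtype.ext_iff]
      rfl
    have hi : cls x = (Cz (x : G)).relIndex N := congrArg Subgroup.index e
    rw [hi, ← inf_relIndex_right, relIndex_mul_index inf_le_right]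
    exact index_dvd_of_le inf_le_left
  exact ((hco.symm.coprime_dvd_right (dvd_refl _)).symm.coprime_dvd_left
    (Nat.gcd_dvd_right _ _)).dvd_of_dvd_mul_right ((Nat.gcd_dvd_left _ _).trans h3)

end H87.ThreeSize
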