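import Mathlib
import Cfsg.Agent.H87.ThreeSize.Basic
import Cfsg.Agent.H33.FourSizes

/-!
Three class sizes, one a multiple of another: the splitting of the primes and of the elements.
-/

set_option autoImplicit false
set_option linter.unusedSectionVars false
set_option linter.style.haveILetI false

namespace H87.ThreeSize

open Subgroup H8.Rank3 H33.FS

universe u

/-- Class sizes `a`, `b`, `c` besides `1`, with `b` a proper divisor of `a`. -/
structure Div (G : Type u) [Group G] (a b c : ℕ) : Prop where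
  center_eq : center G = ⊥
  hab : b ∣ a
  ne_ab : a ≠ b
  ne_ac : a ≠ c
  ne_bc : b ≠ c
  mem : ∀ x : G, x ≠ 1 → cls x = a ∨ cls x = b ∨ cls x = c
  ea : ∃ x : G, x ≠ 1 ∧ cls x = a
  eb : ∃ x : G, x ≠ 1 ∧ cls x = b
  ec : ∃ x : G, x ≠ 1 ∧ cls x = c

/-- Moreover every prime of `c` divides `a`, and `G` is not soluble. -/
structure Full (G : Type u) [Group G] (a b c : ℕ) : Prop extends Div G a b c where
  hca : ∀ r : ℕ, r.Prime → r ∣ c → r ∣ a
  ns : ¬ Group.IsSolvable G

variable {G : Type u} [Group G] [Finite G] {a b c : ℕ}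

namespace Div

theorem one_lt_a (D : Div G a b c) : 1 < a := by
  obtain ⟨x, hx, rfl⟩ := D.ea; exact one_lt_cls D.center_eq hx

theorem one_lt_b (D : Div G a b c) : 1 < b := by
  obtain ⟨x, hx, rfl⟩ := D.eb; exact one_lt_cls D.center_eq hx

theorem one_lt_c (D : Div G a b c) : 1 < c := by
  obtain ⟨x, hx, rfl⟩ := D.ec; exact one_lt_cls D.center_eq hx

theorem coprime (D : Div G a b c) : Nat.Coprime b c := by
  refine Nat.coprime_of_dvd fun r hr hb hc => ?_
  obtain ⟨x, -, rfl⟩ := D.eb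
  obtain ⟨w, hw, hn⟩ := exists_central_elem hr (hb.trans (H27.index_cent_dvd_card x))
  rcases D.mem w (fun e => hr.ne_one (by rw [← hw, e, orderOf_one])) with h | h | h
  · exact hn (h ▸ hb.trans D.hab)
  · exact hn (h ▸ hb)
  · exact hn (h ▸ hc)

theorem not_c_dvd_b (D : Div G a b c) : ¬ c ∣ b := fun h =>
  D.one_lt_c.ne' (Nat.eq_one_of_dvd_coprimes D.coprime h dvd_rfl)

theorem not_b_dvd_c (D : Div G a b c) : ¬ b ∣ c := fun h =>
  D.one_lt_b.ne' (Nat.eq_one_of_dvd_coprimes D.coprime dvd_rfl h)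

theorem not_a_dvd_b (D : Div G a b c) : ¬ a ∣ b := fun h => D.ne_ab (Nat.dvd_antisymm h D.hab)

theorem not_a_dvd_c (D : Div G a b c) : ¬ a ∣ c := fun h => D.not_b_dvd_c (D.hab.trans h)

theorem b_or (D : Div G a b c) {x : G} (hx : x ≠ 1) (h : b ∣ cls x) : cls x = a ∨ cls x = b := by
  rcases D.mem x hx with e | e | e
  · exact Or.inl e
  · exact Or.inr e
  · exact absurd (e ▸ h) D.not_b_dvd_c

theorem c_or (D : Div G a b c) {x : G} (hx : x ≠ 1) (h : c ∣ cls x) : cls x = a ∨ cls x = c := by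
  rcases D.mem x hx with e | e | e
  · exact Or.inl e
  · exact absurd (e ▸ h) D.not_c_dvd_b
  · exact Or.inr e

theorem a_eq (D : Div G a b c) {x : G} (hx : x ≠ 1) (h : a ∣ cls x) : cls x = a := by
  rcases D.mem x hx with e | e | e
  · exact e
  · exact absurd (e ▸ h) D.not_a_dvd_b
  · exact absurd (e ▸ h) D.not_a_dvd_c

theorem b_eq (D : Div G a b c) {x y : G} (hx : cls x = b) (hy : y ≠ 1) (h : Cz x ≤ Cz y) :
    cls y = b ∧ Cz x = Cz y := by
  have hd : cls y ∣ b := hx ▸ cls_dvd h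
  have e : cls y = b := by
    rcases D.mem y hy with e | e | e
    · exact absurd (e ▸ hd) D.not_a_dvd_b
    · exact e
    · exact absurd (e ▸ hd) D.not_c_dvd_b
  exact ⟨e, Cz_eq_of_cls h (hx.trans e.symm)⟩

theorem c_eq (D : Div G a b c) {x y : G} (hx : cls x = c) (hy : y ≠ 1) (h : Cz x ≤ Cz y) :
    cls y = c ∧ Cz x = Cz y := by
  have hd : cls y ∣ c := hx ▸ cls_dvd h
  have e : cls y = c := by
    rcases D.mem y hy with e | e | e
    · exact absurd (e ▸ hd) D.not_a_dvd_c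
    · exact absurd (e ▸ hd) D.not_b_dvd_c
    · exact e
  exact ⟨e, Cz_eq_of_cls h (hx.trans e.symm)⟩

theorem ne_one_of_b (D : Div G a b c) {x : G} (hx : cls x = b) : x ≠ 1 := fun e =>
  D.one_lt_b.ne' (hx.symm.trans (e ▸ H27.index_cent_one))

theorem ne_one_of_c (D : Div G a b c) {x : G} (hx : cls x = c) : x ≠ 1 := fun e =>
  D.one_lt_c.ne' (hx.symm.trans (e ▸ H27.index_cent_one))

/-- Commuting elements of coprime orders and of the two small sizes force solubility. -/
theorem not_commute (D : Div G a b c) (hns : ¬ Group.IsSolvable G) {x y : G} (hx : cls x = c)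
    (hy : cls y = b) (hco : Nat.Coprime (orderOf x) (orderOf y)) : ¬ Commute x y := fun hc => by
  have e : cls (x * y) = b * c := by
    show (Cz (x * y)).index = _
    rw [Cz_mul_eq hc hco, H1.index_inf_eq_of_coprime _ _ (by
      show Nat.Coprime (cls x) (cls y)
      rw [hx, hy]; exact D.coprime.symm)]
    show cls x * cls y = _
    rw [hx, hy, mul_comm]
  have h1 : a = b * c := by
    rcases D.mem _ (mul_ne_one hc hco (D.ne_one_of_c hx)) with h | h | h
    · exact h.symm.trans e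
    · exact absurd ((Dvd.intro_left b rfl).trans (e ▸ h).dvd) D.not_c_dvd_b
    · exact absurd ((Dvd.intro c rfl).trans (e ▸ h).dvd) D.not_b_dvd_c
  obtain ⟨xa, -, hxa⟩ := D.ea
  have h4 : FourSizes G b c := ⟨D.one_lt_b, D.one_lt_c, D.coprime, fun g => by
    rcases eq_or_ne g 1 with rfl | hg
    · exact Or.inl H27.index_cent_one
    rcases D.mem g hg with h | h | h
    · exact Or.inr (Or.inr (Or.inr (h.trans h1)))
    · exact Or.inr (Or.inl h)
    · exact Or.inr (Or.inr (Or.inl h)), ⟨_, hy⟩, ⟨_, hx⟩, ⟨xa, hxa.trans h1⟩⟩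
  haveI := (nilpotent_and_primePow h4).1
  exact hns inferInstance

end Div

theorem prime_orderOf_ne_one {x : G} {p : ℕ} (hp : p.Prime) {k : ℕ} (h : orderOf x = p ^ k)
    (hx : x ≠ 1) : p ∣ orderOf x := by
  rcases Nat.eq_zero_or_pos k with rfl | hk
  · exact absurd (orderOf_eq_one_iff.1 (by simpa using h)) hx
  · exact h ▸ dvd_pow_self p hk.ne'

namespace Full

theorem prime_dvd_a (D : Full G a b c) {r : ℕ} (hr : r.Prime) (h : r ∣ Nat.card G) : r ∣ a := by
  haveI := Fact.mk hr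
  by_contra hn
  have hall : ∀ x : G, ¬ r ∣ (centralizer ({x} : Set G)).index := by
    intro x
    rcases eq_or_ne x 1 with rfl | hx
    · rw [H27.index_cent_one]; exact hr.not_dvd_one
    rcases D.mem x hx with e | e | e
    · exact fun h' => hn (e ▸ h')
    · exact fun h' => hn ((e ▸ h' : r ∣ b).trans D.hab)
    · exact fun h' => hn (D.hca r hr (e ▸ h'))
  obtain ⟨P⟩ : Nonempty (Sylow r G) := inferInstance
  exact P.ne_bot_of_dvd_card h
    (eq_bot_iff.2 (D.center_eq ▸ H27.sylow_le_center_of_forall_not_dvd P hall))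

/-- The prime of a prime power element of size `c` divides `b`. -/
theorem prime_of_c (D : Full G a b c) {t k : ℕ} (ht : t.Prime) {x : G} (hx : orderOf x = t ^ k)
    (hxc : cls x = c) : t ∣ b := by
  by_contra hn
  haveI := Fact.mk ht
  obtain ⟨y, -, hy⟩ := D.eb
  obtain ⟨r, v, hr, hv, hvy⟩ := exists_prime_power_elem (D.ne_one_of_b hy)
  have hv1 : v ≠ 1 := fun e => hr.ne_one (by rw [← hv, e, orderOf_one])
  have hvb : cls v = b := (D.b_eq hy hv1 (Cz_le_of_mem_zpowers hvy)).1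
  obtain ⟨g, hg⟩ := exists_conj_mem (H := Cz v) (by
    show ¬ t ∣ cls v
    rw [hvb]; exact hn) hx
  set u := g * x * g⁻¹ with hu
  have huc : cls u = c := (cls_conj g x).trans hxc
  have hu' : orderOf u = t ^ k := (orderOf_conj' g x).trans hx
  rcases ne_or_eq t r with hne | rfl
  · exact D.not_commute D.ns huc hvb
      (coprime_orderOf_of_prime_ne ht hr hne hu' (hv.trans (pow_one r).symm)) (mem_Cz.1 hg)
  obtain ⟨p, hp, hpb⟩ := Nat.exists_prime_and_dvd D.one_lt_b.ne'
  haveI := Fact.mk hp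
  have hpc : ¬ p ∣ c := fun h => hp.ne_one (Nat.eq_one_of_dvd_coprimes D.coprime hpb h)
  obtain ⟨P, hP⟩ := H27.exists_sylow_le_of_not_dvd_index (p := p) (H := Cz u) (by
    show ¬ p ∣ cls u
    rw [huc]; exact hpc)
  obtain ⟨w, hwP, hw, hle⟩ := exists_central_of_sylow (hpb.trans (hy ▸ H27.index_cent_dvd_card y)) P
  have hw1 : w ≠ 1 := fun e => hp.ne_one (by rw [← hw, e, orderOf_one])
  have hpt : p ≠ t := fun e => hn (e ▸ hpb)
  have hpw : ¬ p ∣ cls w := H27.not_dvd_index_iff.2 ⟨P, hle⟩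
  have hwc : cls w = c := by
    rcases D.mem w hw1 with e | e | e
    · exact absurd (e ▸ hpb.trans D.hab) hpw
    · exact absurd (e ▸ hpb) hpw
    · exact e
  have huw : Commute u w := (show Commute w u from mem_Cz.1 (hP hwP)).symm
  have hco := coprime_orderOf_of_prime_ne ht hp (Ne.symm hpt) hu' (hw.trans (pow_one p).symm)
  have hm := Cz_mul_eq huw hco
  have hmc : cls (u * w) = c := by
    rcases D.c_or (mul_ne_one huw hco (D.ne_one_of_c huc)) (huc ▸ cls_dvd (hm.le.trans inf_le_left))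
      with e | e
    · refine absurd ?_ (H27.not_dvd_index_iff (p := p) (H := Cz (u * w)).2 ⟨P, hm ▸ le_inf hP hle⟩)
      show p ∣ cls (u * w)
      rw [e]; exact hpb.trans D.hab
    · exact e
  have e1 := (D.c_eq hmc (D.ne_one_of_c huc) (hm.le.trans inf_le_left)).2
  have e2 := (D.c_eq hmc hw1 (hm.le.trans inf_le_right)).2
  have hvw : v ∈ Cz w := e2 ▸ e1 ▸ mem_Cz_comm.1 hg
  exact D.not_commute D.ns hwc hvb
    (coprime_orderOf_of_prime_ne hp ht hpt (hw.trans (pow_one p).symm) (hv.trans (pow_one t).symm))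
    (show Commute v w from mem_Cz.1 hvw).symm

/-- The prime of a prime power element of size `b` does not divide `b`. -/
theorem prime_of_b (D : Full G a b c) {t k : ℕ} (ht : t.Prime) {x : G} (hx : orderOf x = t ^ k)
    (hxb : cls x = b) : ¬ t ∣ b := by
  intro htb
  haveI := Fact.mk ht
  obtain ⟨q, hq, hqc⟩ := Nat.exists_prime_and_dvd D.one_lt_c.ne'
  haveI := Fact.mk hq
  have hqb : ¬ q ∣ b := fun h => hq.ne_one (Nat.eq_one_of_dvd_coprimes D.coprime h hqc)
  have hqt : q ≠ t := fun e => hqb (e ▸ htb)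
  have hqG : q ∣ Nat.card G := by
    obtain ⟨y, -, hy⟩ := D.ec
    exact hqc.trans (hy ▸ H27.index_cent_dvd_card y)
  obtain ⟨Q, hQ⟩ := H27.exists_sylow_le_of_not_dvd_index (p := q) (H := Cz x) (by
    show ¬ q ∣ cls x
    rw [hxb]; exact hqb)
  obtain ⟨w, hwQ, hw, hle⟩ := exists_central_of_sylow hqG Q
  have hw1 : w ≠ 1 := fun e => hq.ne_one (by rw [← hw, e, orderOf_one])
  have hqw : ¬ q ∣ cls w := H27.not_dvd_index_iff.2 ⟨Q, hle⟩
  have hwb : cls w = b := by
    rcases D.mem w hw1 with e | e | e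
    · exact absurd (e ▸ D.hca q hq hqc) hqw
    · exact e
    · exact absurd (e ▸ hqc) hqw
  have hc : Commute x w := (show Commute w x from mem_Cz.1 (hQ hwQ)).symm
  have hco := coprime_orderOf_of_prime_ne ht hq (Ne.symm hqt) hx (hw.trans (pow_one q).symm)
  have hm := Cz_mul_eq hc hco
  have hmb : cls (x * w) = b := by
    rcases D.b_or (mul_ne_one hc hco (D.ne_one_of_b hxb)) (hxb ▸ cls_dvd (hm.le.trans inf_le_left))
      with e | e
    · refine absurd ?_ (H27.not_dvd_index_iff (p := q) (H := Cz (x * w)).2 ⟨Q, hm ▸ le_inf hQ hle⟩)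
      show q ∣ cls (x * w)
      rw [e]; exact D.hca q hq hqc
    · exact e
  have e1 := (D.b_eq hmb (D.ne_one_of_b hxb) (hm.le.trans inf_le_left)).2
  have e2 := (D.b_eq hmb hw1 (hm.le.trans inf_le_right)).2
  obtain ⟨P, hxP⟩ := exists_sylow_mem (x := x) hx
  obtain ⟨u, -, hu, hle'⟩ := exists_central_of_sylow (htb.trans (hxb ▸ H27.index_cent_dvd_card x)) P
  have hu1 : u ≠ 1 := fun e => ht.ne_one (by rw [← hu, e, orderOf_one])
  have htu : ¬ t ∣ cls u := H27.not_dvd_index_iff.2 ⟨P, hle'⟩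
  have huc : cls u = c := by
    rcases D.mem u hu1 with e | e | e
    · exact absurd (e ▸ htb.trans D.hab) htu
    · exact absurd (e ▸ htb) htu
    · exact e
  have huw : u ∈ Cz w := e2 ▸ e1 ▸ mem_Cz_comm.1 (hle' hxP)
  exact D.not_commute D.ns huc hwb
    (coprime_orderOf_of_prime_ne ht hq (Ne.symm hqt) (hu.trans (pow_one t).symm)
      (hw.trans (pow_one q).symm)) (mem_Cz.1 huw)

theorem cent_of_c (D : Full G a b c) {x : G} (hx : cls x = c) {r : ℕ} (hr : r.Prime)
    (h : r ∣ cc x) : r ∣ b := by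
  by_contra hn
  haveI := Fact.mk hr
  obtain ⟨p, u, hp, hu, hux⟩ := exists_prime_power_elem (D.ne_one_of_c hx)
  have hu1 : u ≠ 1 := fun e => hp.ne_one (by rw [← hu, e, orderOf_one])
  obtain ⟨huc, heq⟩ := D.c_eq hx hu1 (Cz_le_of_mem_zpowers hux)
  have hpb : p ∣ b := D.prime_of_c hp (hu.trans (pow_one p).symm) huc
  obtain ⟨⟨w, hwC⟩, hw'⟩ := exists_prime_orderOf_dvd_card' (G := Cz x) r h
  have hw : orderOf w = r ^ 1 := by rw [← hw', Subgroup.orderOf_mk, pow_one]
  have hw1 : w ≠ 1 := fun e => hr.ne_one (by rw [← pow_one r, ← hw, e, orderOf_one])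
  have hcomm : Commute u w := (show Commute w u from mem_Cz.1 (heq ▸ hwC)).symm
  have hpr : p ≠ r := fun e => hn (e ▸ hpb)
  have hco := coprime_orderOf_of_prime_ne hp hr hpr (hu.trans (pow_one p).symm) hw
  have hwa : cls w = a := by
    rcases D.mem w hw1 with e | e | e
    · exact e
    · exact absurd hcomm (D.not_commute D.ns huc e hco)
    · exact absurd (D.prime_of_c hr hw e) hn
  have hm := Cz_mul_eq hcomm hco
  have hma : cls (u * w) = a :=
    D.a_eq (mul_ne_one hcomm hco hu1) (hwa ▸ cls_dvd (hm.le.trans inf_le_right))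
  have hle : Cz w ≤ Cz u := by
    rw [← Cz_eq_of_cls (hm.le.trans inf_le_right) (hma.trans hwa.symm)]
    exact hm.le.trans inf_le_left
  obtain ⟨R, hwR⟩ := exists_sylow_mem (x := w) hw
  have hrG : r ∣ Nat.card G := h.trans (cc_dvd x)
  obtain ⟨v, -, hv, hle'⟩ := exists_central_of_sylow hrG R
  have hv1 : v ≠ 1 := fun e => hr.ne_one (by rw [← hv, e, orderOf_one])
  have hrv : ¬ r ∣ cls v := H27.not_dvd_index_iff.2 ⟨R, hle'⟩
  have hvb : cls v = b := by
    rcases D.mem v hv1 with e | e | e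
    · exact absurd (e ▸ D.prime_dvd_a hr hrG) hrv
    · exact e
    · exact absurd (D.prime_of_c hr (hv.trans (pow_one r).symm) e) hn
  have hvu : v ∈ Cz u := hle (mem_Cz_comm.1 (hle' hwR))
  exact D.not_commute D.ns huc hvb
    (coprime_orderOf_of_prime_ne hp hr hpr (hu.trans (pow_one p).symm) (hv.trans (pow_one r).symm))
    (show Commute v u from mem_Cz.1 hvu).symm

theorem cent_of_b (D : Full G a b c) {x : G} (hx : cls x = b) {p : ℕ} (hp : p.Prime)
    (h : p ∣ cc x) : ¬ p ∣ b := by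
  intro hpb
  haveI := Fact.mk hp
  obtain ⟨r, v, hr, hv, hvx⟩ := exists_prime_power_elem (D.ne_one_of_b hx)
  have hv1 : v ≠ 1 := fun e => hr.ne_one (by rw [← hv, e, orderOf_one])
  obtain ⟨hvb, heq⟩ := D.b_eq hx hv1 (Cz_le_of_mem_zpowers hvx)
  have hrb : ¬ r ∣ b := D.prime_of_b hr (hv.trans (pow_one r).symm) hvb
  obtain ⟨⟨y, hyC⟩, hy'⟩ := exists_prime_orderOf_dvd_card' (G := Cz x) p h
  have hy : orderOf y = p ^ 1 := by rw [← hy', Subgroup.orderOf_mk, pow_one]
  have hy1 : y ≠ 1 := fun e => hp.ne_one (by rw [← pow_one p, ← hy, e, orderOf_one])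
  have hcomm : Commute y v := mem_Cz.1 (heq ▸ hyC)
  have hpr : p ≠ r := fun e => hrb (e ▸ hpb)
  have hco := coprime_orderOf_of_prime_ne hp hr hpr hy (hv.trans (pow_one r).symm)
  have hya : cls y = a := by
    rcases D.mem y hy1 with e | e | e
    · exact e
    · exact absurd hpb (D.prime_of_b hp hy e)
    · exact absurd hcomm (D.not_commute D.ns e hvb hco)
  have hm := Cz_mul_eq hcomm hco
  have hma : cls (y * v) = a :=
    D.a_eq (mul_ne_one hcomm hco hy1) (hya ▸ cls_dvd (hm.le.trans inf_le_left))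
  have hle : Cz y ≤ Cz v := by
    rw [← Cz_eq_of_cls (hm.le.trans inf_le_left) (hma.trans hya.symm)]
    exact hm.le.trans inf_le_right
  obtain ⟨P, hyP⟩ := exists_sylow_mem (x := y) hy
  obtain ⟨u, -, hu, hle'⟩ := exists_central_of_sylow (h.trans (cc_dvd x)) P
  have hu1 : u ≠ 1 := fun e => hp.ne_one (by rw [← hu, e, orderOf_one])
  have hpu : ¬ p ∣ cls u := H27.not_dvd_index_iff.2 ⟨P, hle'⟩
  have huc : cls u = c := by
    rcases D.mem u hu1 with e | e | e
    · exact absurd (e ▸ hpb.trans D.hab) hpu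
    · exact absurd (e ▸ hpb) hpu
    · exact e
  exact D.not_commute D.ns huc hvb
    (coprime_orderOf_of_prime_ne hp hr hpr (hu.trans (pow_one p).symm) (hv.trans (pow_one r).symm))
    (mem_Cz.1 (hle (mem_Cz_comm.1 (hle' hyP))))

theorem card_eq (D : Full G a b c) : b * c = Nat.card G := by
  obtain ⟨u, -, hu⟩ := D.ec
  obtain ⟨v, -, hv⟩ := D.eb
  have h1 : cc u * c = Nat.card G := hu ▸ cc_mul_cls u
  have h2 : cc v * b = Nat.card G := hv ▸ cc_mul_cls v
  have hco : Nat.Coprime (cc u) (cc v) := Nat.coprime_of_dvd fun p hp h h' =>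
    D.cent_of_b hv hp h' (D.cent_of_c hu hp h)
  have h3 : cc u ∣ b := hco.dvd_of_dvd_mul_left ⟨c, h2.trans h1.symm⟩
  have h4 : b ∣ cc u := D.coprime.dvd_of_dvd_mul_right (h1.trans h2.symm ▸ Dvd.intro_left _ rfl)
  rw [← h1, Nat.dvd_antisymm h4 h3]

theorem cc_of_c (D : Full G a b c) {x : G} (hx : cls x = c) : cc x = b := by
  have h := cc_mul_cls x
  rw [hx, ← D.card_eq] at h
  exact Nat.eq_of_mul_eq_mul_right (by have := D.one_lt_c; omega) h

theorem cc_of_b (D : Full G a b c) {x : G} (hx : cls x = b) : cc x = c := by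
  have h := cc_mul_cls x
  rw [hx, ← D.card_eq, mul_comm b] at h
  exact Nat.eq_of_mul_eq_mul_right (by have := D.one_lt_b; omega) h

theorem cc_of_a (D : Full G a b c) {x : G} (hx : cls x = a) : cc x ∣ c := by
  obtain ⟨k, hk⟩ := D.hab
  have h := cc_mul_cls x
  rw [hx, ← D.card_eq, hk, ← mul_assoc, mul_comm (cc x), mul_assoc] at h
  exact ⟨k, (Nat.eq_of_mul_eq_mul_left (by have := D.one_lt_b; omega) h).symm⟩

theorem kind (D : Full G a b c) {x : G} (hx : x ≠ 1) :
    (orderOf x ∣ b ∧ cls x = c) ∨ (orderOf x ∣ c ∧ (cls x = a ∨ cls x = b) ∧ cc x ∣ c) := by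
  rcases D.mem x hx with e | e | e
  · exact Or.inr ⟨(orderOf_dvd_cc x).trans (D.cc_of_a e), Or.inl e, D.cc_of_a e⟩
  · exact Or.inr ⟨D.cc_of_b e ▸ orderOf_dvd_cc x, Or.inr e, (D.cc_of_b e).dvd⟩
  · exact Or.inl ⟨D.cc_of_c e ▸ orderOf_dvd_cc x, e⟩

theorem eq_one_of_both (D : Full G a b c) {x : G} (h1 : orderOf x ∣ b) (h2 : orderOf x ∣ c) :
    x = 1 :=
  orderOf_eq_one_iff.1 (Nat.eq_one_of_dvd_coprimes D.coprime h1 h2)

theorem cls_of_b_part (D : Full G a b c) {x : G} (hx : x ≠ 1) (h : orderOf x ∣ b) : cls x = c :=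
  (D.kind hx).elim And.right fun h' => absurd (D.eq_one_of_both h h'.1) hx

theorem cls_of_c_part (D : Full G a b c) {x : G} (hx : x ≠ 1) (h : orderOf x ∣ c) :
    (cls x = a ∨ cls x = b) ∧ cc x ∣ c :=
  (D.kind hx).elim (fun h' => absurd (D.eq_one_of_both h'.1 h) hx) And.right

theorem dvd_b_of_mem (D : Full G a b c) {x y : G} (hx : cls x = c) (hy : y ∈ Cz x) :
    orderOf y ∣ b := D.cc_of_c hx ▸ (Cz x).orderOf_dvd_natCard hy

theorem eq_one_of_commute (D : Full G a b c) {x y : G} (hx : x ≠ 1) (hxb : orderOf x ∣ b)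
    (hyc : orderOf y ∣ c) (h : Commute x y) : y = 1 :=
  D.eq_one_of_both (D.dvd_b_of_mem (D.cls_of_b_part hx hxb) (mem_Cz.2 h.eq.symm)) hyc

theorem cent_c_kind (D : Full G a b c) {x : G} (hx : cls x = c) :
    IsMulCommutative (Cz x) ∨ ∃ p : ℕ, p.Prime ∧ p ∣ b ∧ IsPGroup p (Cz x) := by
  obtain ⟨p, u, hp, hu, hux⟩ := exists_prime_power_elem (D.ne_one_of_c hx)
  have hu1 : u ≠ 1 := fun e => hp.ne_one (by rw [← hu, e, orderOf_one])
  obtain ⟨huc, heq⟩ := D.c_eq hx hu1 (Cz_le_of_mem_zpowers hux)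
  have hpair : ∀ s t : G, s ∈ Cz u → t ∈ Cz u → s ≠ 1 → t ≠ 1 → Commute s t →
      Nat.Coprime (orderOf s) (orderOf t) → Cz s = Cz t := by
    intro s t hs _ hs1 ht1 hc hco
    have hst : s * t ∈ Cz u := (Cz u).mul_mem hs ‹_›
    have e := D.cls_of_b_part (mul_ne_one hc hco hs1) (D.dvd_b_of_mem huc hst)
    have hm := Cz_mul_eq hc hco
    rw [← (D.c_eq e hs1 (hm.le.trans inf_le_left)).2, (D.c_eq e ht1 (hm.le.trans inf_le_right)).2]
  rw [heq]
  rcases comm_or_pGroup hp (hu.trans (pow_one p).symm) hu1 hpair with h | h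
  · exact Or.inl h
  · exact Or.inr ⟨p, hp, D.prime_of_c hp (hu.trans (pow_one p).symm) huc, h⟩

theorem cent_c_nilpotent (D : Full G a b c) {x : G} (hx : cls x = c) : Group.IsNilpotent (Cz x) := by
  rcases D.cent_c_kind hx with h | ⟨p, hp, -, h⟩
  · letI : CommGroup (Cz x) := { (inferInstance : Group (Cz x)) with mul_comm := h.is_comm.comm }
    exact CommGroup.isNilpotent
  · haveI := Fact.mk hp
    exact h.isNilpotent

theorem cent_eq_of_comm (D : Full G a b c) {x y : G} (hx : cls x = c)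
    (hab : IsMulCommutative (Cz x)) (hy : y ∈ Cz x) (hy1 : y ≠ 1) : Cz y = Cz x :=
  ((D.c_eq hx hy1 fun g hg => mem_Cz_of_comm hab hg hy).2).symm

/-- If `2` divides `b` the centralisers of involutions are abelian. -/
theorem invol_comm_of_two_dvd (D : Full G a b c) (h2 : 2 ∣ b) {t : G} (ht : orderOf t = 2) :
    IsMulCommutative (Cz t) := by
  haveI : Fact (Nat.Prime 2) := ⟨Nat.prime_two⟩
  have ht1 : t ≠ 1 := fun e => by rw [e, orderOf_one] at ht; omega
  have htc := D.cls_of_b_part ht1 (ht ▸ h2)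
  rcases D.cent_c_kind htc with h | ⟨p, hp, -, h⟩
  · exact h
  haveI := Fact.mk hp
  obtain ⟨j, hj⟩ := (IsPGroup.iff_orderOf.1 h) ⟨t, self_mem_Cz t⟩
  rw [Subgroup.orderOf_mk, ht] at hj
  have hp2 : p = 2 := by
    rcases Nat.eq_zero_or_pos j with rfl | hj0
    · simp at hj
    · exact ((Nat.prime_dvd_prime_iff_eq hp Nat.prime_two).1 (hj ▸ dvd_pow_self p hj0.ne'))
  subst hp2
  obtain ⟨k, hk⟩ := h.exists_card_eq
  have hb : b = 2 ^ k := (D.cc_of_c htc).symm.trans hk
  have hc2 : ¬ 2 ∣ c := fun h' => by simpa using Nat.eq_one_of_dvd_coprimes D.coprime h2 h'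
  have hfull : b = 2 ^ (Nat.card G).factorization 2 := by
    rw [← D.card_eq, Nat.factorization_mul (by have := D.one_lt_b; omega) (by have := D.one_lt_c; omega),
      Finsupp.add_apply, Nat.factorization_eq_zero_of_not_dvd hc2, add_zero, hb,
      Nat.Prime.factorization_pow Nat.prime_two, Finsupp.single_eq_same]
  refine isMulCommutative_of_twoCentral (fun x hx => ?_) h
  rcases eq_or_ne x 1 with rfl | hx1
  · obtain ⟨P⟩ : Nonempty (Sylow 2 G) := inferInstance
    exact ⟨P, fun g _ => mem_Cz.2 (by simp)⟩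
  obtain ⟨i, hi⟩ := hx
  have hxb : orderOf x ∣ b := by
    obtain ⟨m, -, hm⟩ := (Nat.dvd_prime_pow Nat.prime_two).1 (orderOf_dvd_of_pow_eq_one hi)
    rw [hm, hfull]
    refine pow_dvd_pow 2 ?_
    exact (Nat.Prime.pow_dvd_iff_le_factorization Nat.prime_two Nat.card_pos.ne').1
      (hm ▸ orderOf_dvd_natCard x)
  exact ⟨Sylow.ofCard (Cz x) ((D.cc_of_c (D.cls_of_b_part hx1 hxb)).trans hfull), le_rfl⟩

end Full

end H87.ThreeSize
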