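import Mathlib
import Cfsg.Agent.H87.ThreeSize.Structure
import Cfsg.Agent.H27.CoprimeSizes.Prelim
import Cfsg.Agent.H4.KegelWielandt

/-!
Three class sizes with the prime two outside `b`: every centraliser of size `b` is that of a
conjugate of a fixed central involution.
-/

set_option autoImplicit false
set_option linter.unusedSectionVars false
set_option linter.style.haveILetI false

namespace H87.ThreeSize

open Subgroup H8.Rank3 H33.FS

universe u

variable {G : Type u} [Group G] [Finite G] {a b c : ℕ}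

theorem ne_one_of_prime {x : G} {p : ℕ} (hp : p.Prime) (h : orderOf x = p) : x ≠ 1 :=
  fun e => hp.ne_one (by rw [← h, e, orderOf_one])

theorem cls_eq_of_Cz {x y : G} (h : Cz x = Cz y) : cls x = cls y := congrArg Subgroup.index h

theorem factorizes_of_card {H K : Subgroup G} (hc : Nat.Coprime (Nat.card H) (Nat.card K))
    (he : Nat.card H * Nat.card K = Nat.card G) : H4.Factorizes H K := by
  let f : H × K → G := fun x => (x.1 : G) * x.2
  have hf : Function.Injective f := by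
    rintro ⟨h, k⟩ ⟨h', k'⟩ e
    have e' : (h : G) * k = h' * k' := e
    have e1 : (h' : G)⁻¹ * h = k' * (k : G)⁻¹ := by
      calc (h' : G)⁻¹ * h = (h' : G)⁻¹ * ((h : G) * k) * (k : G)⁻¹ := by group
        _ = _ := by rw [e']; group
    have h1 : (h' : G)⁻¹ * h = 1 := by
      refine orderOf_eq_one_iff.1 (Nat.eq_one_of_dvd_coprimes hc
        (H.orderOf_dvd_natCard (H.mul_mem (H.inv_mem h'.2) h.2)) ?_)
      rw [e1]
      exact K.orderOf_dvd_natCard (K.mul_mem k'.2 (K.inv_mem k.2))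
    have e2 : (h : G) = h' := (inv_mul_eq_one.1 h1).symm
    rw [e2] at e'
    exact Prod.ext (Subtype.ext e2) (Subtype.ext (mul_left_cancel e'))
  intro g
  obtain ⟨⟨h, k⟩, e⟩ := (hf.bijective_of_nat_card_le (by rw [Nat.card_prod, he])).2 g
  exact ⟨h, h.2, k, k.2, e.symm⟩

/-- An element of order `r` in the centre of a Sylow `r`-subgroup. -/
structure Central (r : ℕ) (e : G) : Prop where
  ord : orderOf e = r
  sylow : ∃ R : Sylow r G, e ∈ (R : Subgroup G) ∧ (R : Subgroup G) ≤ Cz e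

theorem exists_central {r : ℕ} (hr : r.Prime) (h : r ∣ Nat.card G) : ∃ e : G, Central r e := by
  haveI := Fact.mk hr
  obtain ⟨R⟩ : Nonempty (Sylow r G) := inferInstance
  obtain ⟨e, he, ho, hle⟩ := exists_central_of_sylow h R
  exact ⟨e, ho, R, he, hle⟩

theorem Full.cls_central (D : Full G a b c) {r : ℕ} (hr : r.Prime) (hrc : r ∣ c) {e : G}
    (he : Central r e) : cls e = b := by
  haveI := Fact.mk hr
  obtain ⟨R, -, hle⟩ := he.sylow
  have hn : ¬ r ∣ cls e := H27.not_dvd_index_iff.2 ⟨R, hle⟩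
  rcases D.mem e (ne_one_of_prime hr he.ord) with h | h | h
  · exact absurd (h ▸ D.hca r hr hrc) hn
  · exact h
  · exact absurd (h ▸ hrc) hn

theorem Full.dvd_card_of_c (D : Full G a b c) {r : ℕ} (hrc : r ∣ c) : r ∣ Nat.card G :=
  hrc.trans (D.card_eq ▸ Dvd.intro_left b rfl)

theorem Full.conj_cent_step (D : Full G a b c) {v : G} {t : ℕ} (ht : t.Prime) (hv : orderOf v = t)
    (hvb : cls v = b) {r : ℕ} (hr : r.Prime) (hne : t ≠ r) (hrc : r ∣ c) {e : G}
    (he : Central r e) : ∃ g : G, Cz v = Cz (g * e * g⁻¹) := by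
  haveI := Fact.mk hr
  obtain ⟨R0, heR, hle⟩ := he.sylow
  have hrb : ¬ r ∣ b := fun h => hr.ne_one (Nat.eq_one_of_dvd_coprimes D.coprime h hrc)
  obtain ⟨R, hR⟩ := H27.exists_sylow_le_of_not_dvd_index (p := r) (H := Cz v) (by
    show ¬ r ∣ cls v
    rw [hvb]; exact hrb)
  obtain ⟨g, rfl⟩ := MulAction.exists_smul_eq G R0 R
  refine ⟨g, ?_⟩
  set w := g * e * g⁻¹ with hw
  have hwR : w ∈ ((g • R0 : Sylow r G) : Subgroup G) := by
    rw [Sylow.coe_subgroup_smul]
    exact ⟨e, heR, rfl⟩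
  have hRw : ((g • R0 : Sylow r G) : Subgroup G) ≤ Cz w := by
    rw [hw, Cz_conj, Sylow.coe_subgroup_smul]
    exact Subgroup.map_mono hle
  have hc : Commute v w := (show Commute w v from mem_Cz.1 (hR hwR)).symm
  have how : orderOf w = r ^ 1 := by rw [hw, orderOf_conj', he.ord, pow_one]
  have hco := coprime_orderOf_of_prime_ne ht hr hne (hv.trans (pow_one t).symm) how
  have hm := Cz_mul_eq hc hco
  have hmb : cls (v * w) = b := by
    rcases D.b_or (mul_ne_one hc hco (ne_one_of_prime ht hv))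
      (hvb ▸ cls_dvd (hm.le.trans inf_le_left)) with h | h
    · refine absurd ?_ (H27.not_dvd_index_iff (p := r) (H := Cz (v * w)).2
        ⟨g • R0, hm ▸ le_inf hR hRw⟩)
      show r ∣ cls (v * w)
      rw [h]; exact D.hca r hr hrc
    · exact h
  rw [← (D.b_eq hmb (ne_one_of_prime ht hv) (hm.le.trans inf_le_left)).2]
  exact (D.b_eq hmb (ne_one_of_prime hr (how.trans (pow_one r))) (hm.le.trans inf_le_right)).2

theorem Full.conj_cent (D : Full G a b c) (h2 : 2 ∣ c) {r0 : ℕ} (hr0 : r0.Prime) (hr0c : r0 ∣ c)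
    (hr02 : r0 ≠ 2) {v : G} (hvb : cls v = b) {r : ℕ} (hr : r.Prime) (hrc : r ∣ c) {e : G}
    (he : Central r e) : ∃ g : G, Cz v = Cz (g * e * g⁻¹) := by
  obtain ⟨t, v0, ht, hv0, hv0v⟩ := exists_prime_power_elem (D.ne_one_of_b hvb)
  obtain ⟨hv0b, heq⟩ := D.b_eq hvb (ne_one_of_prime ht hv0) (Cz_le_of_mem_zpowers hv0v)
  rw [heq]
  by_cases htr : t ≠ r
  · exact D.conj_cent_step ht hv0 hv0b hr htr hrc he
  push Not at htr
  obtain ⟨r', hr', hr'c, hne⟩ : ∃ r', Nat.Prime r' ∧ r' ∣ c ∧ r' ≠ r := by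
    rcases eq_or_ne r 2 with rfl | hr2
    · exact ⟨r0, hr0, hr0c, hr02⟩
    · exact ⟨2, Nat.prime_two, h2, hr2.symm⟩
  obtain ⟨e', he'⟩ := exists_central hr' (D.dvd_card_of_c hr'c)
  obtain ⟨g, hg⟩ := D.conj_cent_step ht hv0 hv0b hr' (htr ▸ hne.symm) hr'c he'
  rw [hg]
  exact D.conj_cent_step hr' ((orderOf_conj' g e').trans he'.ord)
    ((cls_eq_of_Cz hg).symm.trans hv0b) hr hne hrc he

/-- An element of size `a` centralising an element of size `b` has the smaller centraliser. -/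
theorem Full.a_type_le (D : Full G a b c) (h2 : 2 ∣ c) {r0 : ℕ} (hr0 : r0.Prime) (hr0c : r0 ∣ c)
    (hr02 : r0 ≠ 2) {v x : G} (hvb : cls v = b) {t k : ℕ} (ht : t.Prime) (hx : orderOf x = t ^ k)
    (hxa : cls x = a) (hxv : x ∈ Cz v) : Cz x ≤ Cz v := by
  obtain ⟨r, hr, hrc, hne⟩ : ∃ r, Nat.Prime r ∧ r ∣ c ∧ r ≠ t := by
    rcases eq_or_ne t 2 with rfl | ht2
    · exact ⟨r0, hr0, hr0c, hr02⟩
    · exact ⟨2, Nat.prime_two, h2, ht2.symm⟩
  obtain ⟨e, he⟩ := exists_central hr (D.dvd_card_of_c hrc)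
  obtain ⟨g, hg⟩ := D.conj_cent h2 hr0 hr0c hr02 hvb hr hrc he
  set w := g * e * g⁻¹ with hw
  have how : orderOf w = r ^ 1 := by rw [hw, orderOf_conj', he.ord, pow_one]
  have hc : Commute x w := mem_Cz.1 (hg ▸ hxv)
  have hco := coprime_orderOf_of_prime_ne ht hr hne.symm hx how
  have hm := Cz_mul_eq hc hco
  have hx1 : x ≠ 1 := fun e => D.one_lt_a.ne' (hxa.symm.trans (e ▸ H27.index_cent_one))
  have hma : cls (x * w) = a :=
    D.a_eq (mul_ne_one hc hco hx1) (hxa ▸ cls_dvd (hm.le.trans inf_le_left))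
  rw [hg, ← Cz_eq_of_cls (hm.le.trans inf_le_left) (hma.trans hxa.symm)]
  exact hm.le.trans inf_le_right

/-- If `c` is a power of two the group is a product of two nilpotent groups. -/
theorem Full.exists_odd_prime (D : Full G a b c) : ∃ r : ℕ, r.Prime ∧ r ∣ c ∧ r ≠ 2 := by
  by_contra hno
  push Not at hno
  obtain ⟨u, -, hu⟩ := D.ec
  obtain ⟨v, -, hv⟩ := D.eb
  haveI : Fact (Nat.Prime 2) := ⟨Nat.prime_two⟩
  have hK : IsPGroup 2 (Cz v) := IsPGroup.of_card (n := c.primeFactorsList.length)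
    ((D.cc_of_b hv).trans (Nat.eq_prime_pow_of_unique_prime_dvd
      (by have := D.one_lt_c; omega) fun {d} hd hdc => hno d hd hdc))
  refine D.ns (H4.isSolvable_of_coprime (Cz u) (Cz v) (D.cent_c_nilpotent hu) hK.isNilpotent ?_ ?_)
  · show Nat.Coprime (cc u) (cc v)
    rw [D.cc_of_c hu, D.cc_of_b hv]
    exact D.coprime
  · refine factorizes_of_card ?_ ?_
    · show Nat.Coprime (cc u) (cc v)
      rw [D.cc_of_c hu, D.cc_of_b hv]
      exact D.coprime
    · show cc u * cc v = _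
      rw [D.cc_of_c hu, D.cc_of_b hv]
      exact D.card_eq

end H87.ThreeSize
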