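import Mathlib
import Cfsg.Agent.H87.ThreeSize.Central
import Cfsg.Agent.H85.BrauerSuzuki
import Cfsg.Agent.H2.FPFSubgroup
import Cfsg.Agent.H82.PRankOne
import Cfsg.Agent.H6.Basic
import Cfsg.Agent.H1.Cores

/-!
Three class sizes with the prime two outside `b`: an elementary abelian normal subgroup forces
solubility.
-/

set_option autoImplicit false
set_option linter.unusedSectionVars false
set_option linter.style.haveILetI false

namespace H87.ThreeSize

open Subgroup H8.Rank3 H33.FS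

universe u

variable {G : Type u} [Group G] [Finite G] {a b c : ℕ}

theorem Central.conj {r : ℕ} [Fact r.Prime] {e : G} (he : Central r e) (g : G) :
    Central r (g * e * g⁻¹) := by
  obtain ⟨R, heR, hle⟩ := he.sylow
  refine ⟨(orderOf_conj' g e).trans he.ord, g • R, ?_, ?_⟩
  · rw [Sylow.coe_subgroup_smul]
    exact ⟨e, heR, rfl⟩
  · rw [Cz_conj, Sylow.coe_subgroup_smul]
    exact Subgroup.map_mono hle

/-- An involution acting without fixed points on a normal subgroup whose prime divides `b`. -/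
theorem Full.b_normal_false (D : Full G a b c) (h2 : 2 ∣ c) (M : Subgroup G) [hMn : M.Normal]
    (hM0 : M ≠ ⊥) (hab : IsMulCommutative M) {r : ℕ} (hr : r.Prime) (hMr : IsPGroup r M)
    (hrb : r ∣ b) : False := by
  haveI := Fact.mk hr
  haveI : Fact (Nat.Prime 2) := ⟨Nat.prime_two⟩
  have hrc : ¬ r ∣ c := fun h => hr.ne_one (Nat.eq_one_of_dvd_coprimes D.coprime hrb h)
  have hord : ∀ m ∈ M, orderOf m ∣ b := by
    intro m hm
    obtain ⟨k, hk⟩ := IsPGroup.iff_orderOf.1 hMr ⟨m, hm⟩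
    rw [Subgroup.orderOf_mk] at hk
    refine Nat.Coprime.dvd_of_dvd_mul_right ?_ (D.card_eq ▸ orderOf_dvd_natCard m)
    rw [hk]
    exact (hr.coprime_iff_not_dvd.2 hrc).pow_left k
  obtain ⟨m, hmM, hm1⟩ := (Subgroup.ne_bot_iff_exists_ne_one.1 hM0).elim fun x hx =>
    (⟨(x : G), x.2, fun e => hx (Subtype.ext e)⟩ : ∃ m ∈ M, m ≠ (1 : G))
  have hinv : ∀ t : G, orderOf t = 2 → t * m * t⁻¹ = m⁻¹ := by
    intro t ht
    have ht2 : t * t = 1 := by rw [← pow_two, ← ht, pow_orderOf_eq_one]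
    have htt : t⁻¹ = t := inv_eq_of_mul_eq_one_right ht2
    have hx : m * (t * m * t⁻¹) = 1 := by
      by_contra hx1
      have hxM : m * (t * m * t⁻¹) ∈ M := M.mul_mem hmM (hMn.conj_mem m hmM t)
      refine ne_one_of_prime Nat.prime_two ht
        (D.eq_one_of_commute hx1 (hord _ hxM) (ht ▸ h2) ?_)
      show m * (t * m * t⁻¹) * t = t * (m * (t * m * t⁻¹))
      have hc : m * (t * m * t⁻¹) = t * m * t⁻¹ * m := congrArg Subtype.val
        (hab.is_comm.comm ⟨m, hmM⟩ ⟨_, hMn.conj_mem m hmM t⟩)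
      rw [htt] at hc ⊢
      calc m * (t * m * t) * t = m * (t * m) * (t * t) := by group
        _ = m * (t * m) := by rw [ht2, mul_one]
        _ = t * t * (m * (t * m)) := by rw [ht2, one_mul]
        _ = t * (t * m * (t * m)) := by group
        _ = t * ((t * m * t) * m) := by group
        _ = t * (m * (t * m * t)) := by rw [hc]
    exact eq_inv_of_mul_eq_one_right hx
  have huniq : ∀ s t : G, orderOf s = 2 → orderOf t = 2 → Commute s t → s = t := by
    intro s t hs ht hc
    by_contra hne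
    have hss : s * s = 1 := by rw [← pow_two, ← hs, pow_orderOf_eq_one]
    have htt : t * t = 1 := by rw [← pow_two, ← ht, pow_orderOf_eq_one]
    have hst : orderOf (s * t) ∣ 2 :=
      orderOf_dvd_of_pow_eq_one (by rw [hc.mul_pow, pow_two, pow_two, hss, htt, one_mul])
    have hcm : Commute m (s * t) := by
      have h1 : (s * t) * m * (s * t)⁻¹ = m := by
        calc (s * t) * m * (s * t)⁻¹ = s * (t * m * t⁻¹) * s⁻¹ := by group
          _ = (s * m * s⁻¹)⁻¹ := by rw [hinv t ht]; group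
          _ = m := by rw [hinv s hs, inv_inv]
      exact (mul_inv_eq_iff_eq_mul.1 h1).symm
    have e := D.eq_one_of_commute hm1 (hord m hmM) (hst.trans h2) hcm
    apply hne
    calc s = s * (t * t) := by rw [htt, mul_one]
      _ = (s * t) * t := by group
      _ = t := by rw [e, one_mul]
  obtain ⟨z, hzC⟩ := exists_central Nat.prime_two (D.dvd_card_of_c h2)
  have hz := hzC.ord
  have hzb : cls z = b := D.cls_central Nat.prime_two h2 hzC
  have hZ : H85.ZCentral z := H85.zStar
    ⟨hz, fun g hg => (huniq _ _ hz ((orderOf_conj' g z).trans hz) hg).symm⟩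
  set O := Cfsg.pPrimeCore 2 G with hO
  haveI hOn : O.Normal := H1.pPrimeCore_normal' 2 G
  have hOodd : Odd (Nat.card O) := by
    have h := H1.card_pPrimeCore_coprime 2 G
    rwa [Nat.coprime_two_right] at h
  haveI hOs : Group.IsSolvable O := H16.FT.oddOrder hOodd
  -- the centraliser of `z` covers the quotient by the odd core
  have hcover : ∀ g : G, ∃ l ∈ O, l⁻¹ * g ∈ Cz z := by
    intro g
    set k := g * z * g⁻¹ * z⁻¹ with hk
    have hkO : k ∈ O := by
      have h := O.inv_mem (hZ g)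
      have e : (z * g * z⁻¹ * g⁻¹)⁻¹ = k := by rw [hk]; group
      rwa [e] at h
    obtain ⟨n, hn⟩ := H85.odd_orderOf_of_mem_core hkO
    have hzz : z * z = 1 := by rw [← pow_two, ← hz, pow_orderOf_eq_one]
    have hinvk : z * k * z⁻¹ = k⁻¹ := by
      have hgg : (g * z * g⁻¹) * (g * z * g⁻¹) = 1 := by
        calc (g * z * g⁻¹) * (g * z * g⁻¹) = g * (z * z) * g⁻¹ := by group
          _ = 1 := by rw [hzz]; group
      have e1 : (g * z * g⁻¹)⁻¹ = g * z * g⁻¹ := inv_eq_of_mul_eq_one_right hgg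
      have e2 : z⁻¹ = z := inv_eq_of_mul_eq_one_right hzz
      rw [hk, mul_inv_rev, inv_inv, e1]
      calc z * (g * z * g⁻¹ * z⁻¹) * z⁻¹ = z * (g * z * g⁻¹) * (z⁻¹ * z⁻¹) := by group
        _ = z * (g * z * g⁻¹) := by rw [e2, hzz, mul_one]
    set l := k ^ (n + 1) with hl
    refine ⟨l, O.pow_mem hkO _, mem_Cz.2 ?_⟩
    have hll : l * l = k := by
      rw [hl, ← pow_add, show n + 1 + (n + 1) = orderOf k + 1 by omega, pow_succ, pow_orderOf_eq_one,
        one_mul]
    have e3 : z * l⁻¹ * z⁻¹ = l := by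
      rw [hl, ← inv_pow, ← conj_pow, ← inv_inv (z * k⁻¹ * z⁻¹), conj_inv, inv_inv, hinvk, inv_inv]
    have e4 : g * z * g⁻¹ = l * z * l⁻¹ := by
      calc g * z * g⁻¹ = k * z := by rw [hk]; group
        _ = l * l * z := by rw [hll]
        _ = l * (z * l⁻¹ * z⁻¹) * z := by rw [e3]
        _ = l * z * l⁻¹ := by group
    calc l⁻¹ * g * z = l⁻¹ * (g * z * g⁻¹) * g := by group
      _ = z * (l⁻¹ * g) := by rw [e4]; group
  -- the centraliser of `z` has at most two class sizes
  have hKs : Group.IsSolvable (Cz z) := by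
    refine isSolvable_of_one (n := a / b) fun x hx => ?_
    have hx1 : (x : G) ≠ 1 := fun e => hx (by
      rw [show x = 1 from Subtype.ext e]; exact one_mem _)
    rw [cls_subgroup]
    set i := (centralizer ({(x : G)} : Set G)).relIndex (Cz z) with hi
    have h1 : i * b = (Cz (x : G) ⊓ Cz z).index := by
      rw [hi, ← inf_relIndex_right, ← hzb]
      exact relIndex_mul_index inf_le_right
    have h3 : (Cz (x : G) ⊓ Cz z).index = a ∨ (Cz (x : G) ⊓ Cz z).index = b := by
      by_cases he : 2 ∣ orderOf (x : G)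
      · set t := (x : G) ^ (orderOf (x : G) / 2) with ht
        have hto : orderOf t = 2 := orderOf_pow_orderOf_div (orderOf_pos _).ne' he
        have htz : t = z := huniq t z hto hz
          ((show Commute (x : G) z from mem_Cz.1 x.2).pow_left _)
        have hle : Cz (x : G) ≤ Cz z := (Cz_le_of_mem_zpowers (y := t)
          (Subgroup.pow_mem _ (Subgroup.mem_zpowers _) _)).trans (le_of_eq (congrArg Cz htz))
        rw [inf_eq_left.2 hle]
        exact D.b_or hx1 (hzb ▸ cls_dvd hle)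
      · have hc : Commute (x : G) z := mem_Cz.1 x.2
        have hco : Nat.Coprime (orderOf (x : G)) (orderOf z) := by
          rw [hz]; exact (Nat.prime_two.coprime_iff_not_dvd.2 he).symm
        rw [← Cz_mul_eq hc hco]
        exact D.b_or (mul_ne_one hc hco hx1) (hzb ▸ cls_dvd ((Cz_mul_eq hc hco).le.trans inf_le_right))
    rcases h3 with h3 | h3
    · exact (Nat.div_eq_of_eq_mul_left (by have := D.one_lt_b; omega) (h1.trans h3).symm).symm
    · refine absurd ?_ hx
      refine mem_center_iff_cls.1 ?_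
      rw [cls_subgroup]
      exact Nat.eq_of_mul_eq_mul_right (by have := D.one_lt_b; omega)
        ((h1.trans h3).trans (one_mul b).symm)
  haveI := hKs
  have hsur : Function.Surjective ((QuotientGroup.mk' O).comp (Cz z).subtype) := by
    intro q
    obtain ⟨g, rfl⟩ := QuotientGroup.mk'_surjective O q
    obtain ⟨l, hl, hlg⟩ := hcover g
    refine ⟨⟨_, hlg⟩, ?_⟩
    show (QuotientGroup.mk' O) (l⁻¹ * g) = QuotientGroup.mk' O g
    rw [map_mul, show (QuotientGroup.mk' O) l⁻¹ = 1 from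
      (QuotientGroup.eq_one_iff _).2 (O.inv_mem hl), one_mul]
  exact D.ns (H1.isSolvable_of_normal O hOs (Group.isSolvable_of_surjective hsur))

theorem isSolvable_normalizer_cyclic (H : Subgroup G) [IsCyclic H]
    (hc : centralizer (H : Set G) ≤ H) : Group.IsSolvable (normalizer (H : Set G)) := by
  haveI : Group.IsSolvable H :=
    letI := IsCyclic.commGroup (α := H)
    Group.isSolvable_of_comm mul_comm
  set f := H.normalizerMonoidHom
  haveI : Group.IsSolvable f.range := by
    refine Group.isSolvable_of_comm fun x y => Subtype.ext (MulEquiv.ext fun h => ?_)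
    obtain ⟨m, hm⟩ := (x : MulAut H).toMonoidHom.map_cyclic
    obtain ⟨k, hk⟩ := (y : MulAut H).toMonoidHom.map_cyclic
    show (x : MulAut H).toMonoidHom ((y : MulAut H).toMonoidHom h) =
      (y : MulAut H).toMonoidHom ((x : MulAut H).toMonoidHom h)
    rw [hk, hm, hm, hk, ← zpow_mul, ← zpow_mul, mul_comm]
  refine Group.isSolvable_of_ker_le_range (Subgroup.inclusion H.le_normalizer) f.rangeRestrict ?_
  intro x hx
  rw [MonoidHom.ker_rangeRestrict, normalizerMonoidHom_ker] at hx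
  exact ⟨⟨x, hc (mem_subgroupOf.1 hx)⟩, Subtype.ext rfl⟩

/-- Frattini argument on a normal subgroup covered by `K0` and a cyclic centraliser. -/
theorem Full.solvable_of_cover (D : Full G a b c)
    (hcyc : ∀ y : G, cls y = c → IsCyclic (Cz y)) {u : G} (hu : cls u = c) (K0 : Subgroup G)
    [K0.Normal] (hK0 : Group.IsSolvable K0) (L : Subgroup G) [hL : L.Normal]
    (hle : L ≤ K0 ⊔ Cz u) {h : G} (hhu : h ∈ Cz u) (hhL : h ∈ L) (hh1 : h ≠ 1) : False := by
  haveI := hK0
  obtain ⟨p, y, hp, hy, hyh⟩ := exists_prime_power_elem hh1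
  haveI := Fact.mk hp
  have hpb : p ∣ b := hy ▸ D.dvd_b_of_mem hu ((Subgroup.zpowers_le.2 hhu) hyh)
  have hyL : y ∈ L := (Subgroup.zpowers_le.2 hhL) hyh
  obtain ⟨Q⟩ : Nonempty (Sylow p L) := inferInstance
  have hpL : p ∣ Nat.card L := hy ▸ L.orderOf_dvd_natCard hyL
  obtain ⟨w, hwQ, hw, hQw⟩ := exists_central_of_sylow hpL Q
  have hwo : orderOf (w : G) = p := (Subgroup.orderOf_coe w).trans hw
  have hwc : cls (w : G) = c := D.cls_of_b_part (ne_one_of_prime hp hwo) (hwo ▸ hpb)
  haveI := hcyc _ hwc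
  have hHc : IsMulCommutative (Cz (w : G)) := by
    letI := IsCyclic.commGroup (α := Cz (w : G))
    exact ⟨⟨fun s t => mul_comm s t⟩⟩
  haveI : Group.IsSolvable (normalizer (Cz (w : G) : Set G)) := by
    refine isSolvable_normalizer_cyclic _ fun g hg => ?_
    exact mem_Cz.2 ((mem_centralizer_iff.1 hg) (w : G) (self_mem_Cz _)).symm
  set QG := (Q : Subgroup L).map L.subtype with hQG
  have hNle : normalizer (QG : Set G) ≤ normalizer (Cz (w : G) : Set G) := by
    intro g hg
    have hgw : g * (w : G) * g⁻¹ ∈ QG := (mem_normalizer_iff.1 hg _).1 ⟨w, hwQ, rfl⟩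
    obtain ⟨q, hq, hqe⟩ := hgw
    have hgC : g * (w : G) * g⁻¹ ∈ Cz (w : G) := by
      rw [← hqe]
      exact mem_Cz.2 (congrArg Subtype.val (mem_Cz.1 (hQw hq)))
    have e : (Cz (w : G)).map (MulAut.conj g).toMonoidHom = Cz (w : G) := by
      rw [← Cz_conj]
      exact D.cent_eq_of_comm hwc hHc hgC fun h => ne_one_of_prime hp hwo (conj_eq_one_iff.1 h)
    rw [Subgroup.mem_normalizer_iff]
    intro x
    constructor
    · intro hx
      exact e ▸ Subgroup.mem_map_of_mem (MulAut.conj g).toMonoidHom hx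
    · intro hx
      rw [← e, Subgroup.mem_map] at hx
      obtain ⟨v, hv, hvx⟩ := hx
      have : v = x := by simpa [MulAut.conj_apply] using hvx
      exact this ▸ hv
  have hN : Group.IsSolvable (normalizer (QG : Set G)) := Group.isSolvable_of_isSolvable_injective
    (Subgroup.inclusion_injective hNle)
  haveI := hN
  have hsur : Function.Surjective ((QuotientGroup.mk' L).comp (normalizer (QG : Set G)).subtype) := by
    intro q
    obtain ⟨g, rfl⟩ := QuotientGroup.mk'_surjective L q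
    have hg : g ∈ normalizer (QG : Set G) ⊔ L := by
      rw [hQG, Sylow.normalizer_sup_eq_top]; exact Subgroup.mem_top g
    obtain ⟨n, hn, l, hl, rfl⟩ := Subgroup.mem_sup_of_normal_right.1 hg
    refine ⟨⟨n, hn⟩, ?_⟩
    show (QuotientGroup.mk' L) n = QuotientGroup.mk' L (n * l)
    rw [map_mul, show (QuotientGroup.mk' L) l = 1 from (QuotientGroup.eq_one_iff _).2 hl, mul_one]
  haveI hLs : Group.IsSolvable L := by
    have hr : ∀ x : L, QuotientGroup.mk' K0 (x : G) ∈ (Cz u).map (QuotientGroup.mk' K0) := by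
      intro x
      obtain ⟨k, hk, v, hv, e⟩ := Subgroup.mem_sup_of_normal_left.1 (hle x.2)
      refine ⟨v, hv, ?_⟩
      rw [← e, map_mul, show (QuotientGroup.mk' K0) k = 1 from (QuotientGroup.eq_one_iff _).2 hk,
        one_mul]
    haveI : IsCyclic (Cz u) := hcyc u hu
    haveI : IsCyclic ((Cz u).map (QuotientGroup.mk' K0)) :=
      isCyclic_of_surjective _ ((QuotientGroup.mk' K0).subgroupMap_surjective (Cz u))
    haveI : Group.IsSolvable ((Cz u).map (QuotientGroup.mk' K0)) :=
      letI := IsCyclic.commGroup (α := (Cz u).map (QuotientGroup.mk' K0))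
      Group.isSolvable_of_comm mul_comm
    haveI : Group.IsSolvable (K0 ⊓ L : Subgroup G) :=
      Group.isSolvable_of_isSolvable_injective (Subgroup.inclusion_injective (inf_le_left : K0 ⊓ L ≤ K0))
    refine Group.isSolvable_of_ker_le_range (Subgroup.inclusion (inf_le_right : K0 ⊓ L ≤ L))
      (((QuotientGroup.mk' K0).comp L.subtype).codRestrict _ hr) ?_
    intro x hx
    have h1 : QuotientGroup.mk' K0 (x : G) = 1 := congrArg Subtype.val hx
    exact ⟨⟨x, (QuotientGroup.eq_one_iff _).1 h1, x.2⟩, Subtype.ext rfl⟩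
  exact D.ns (H1.isSolvable_of_normal L hLs (Group.isSolvable_of_surjective hsur))

theorem Full.cent_c_cyclic (D : Full G a b c) (h2 : 2 ∣ c) (M : Subgroup G) [hMn : M.Normal]
    (hM0 : M ≠ ⊥) (hab : IsMulCommutative M) {r : ℕ} (hr : r.Prime) (hMr : IsPGroup r M)
    (hrc : r ∣ c) {u : G} (hu : cls u = c) : IsCyclic (Cz u) := by
  haveI := Fact.mk hr
  haveI := hab
  have hfpf : ∀ x ∈ Cz u, x ≠ 1 → M ⊓ centralizer {x} = ⊥ := by
    intro x hx hx1
    rw [eq_bot_iff]
    rintro m ⟨hmM, hmC⟩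
    obtain ⟨k, hk⟩ := IsPGroup.iff_orderOf.1 hMr ⟨m, hmM⟩
    rw [Subgroup.orderOf_mk] at hk
    refine Subgroup.mem_bot.2 (D.eq_one_of_commute hx1 (D.dvd_b_of_mem hu hx) ?_
      (mem_Cz.1 hmC).symm)
    refine Nat.Coprime.dvd_of_dvd_mul_left ?_ (D.card_eq ▸ orderOf_dvd_natCard m)
    rw [hk]
    exact (hr.coprime_iff_not_dvd.2 fun h =>
      hr.ne_one (Nat.eq_one_of_dvd_coprimes D.coprime h hrc)).pow_left k
  have hnorm : ∀ A : Subgroup G, A ≤ normalizer (M : Set G) := fun A => by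
    rw [normalizer_eq_top_iff.2 hMn]; exact le_top
  rcases D.cent_c_kind hu with h | ⟨p, hp, hpb, h⟩
  · exact H2.isCyclic_of_fpf_subgroup (Cz u) M (hnorm _) hM0 hfpf (Or.inl h)
  haveI := Fact.mk hp
  by_contra hnc
  have hp2 : p ≠ 2 := fun e => hp.ne_one (Nat.eq_one_of_dvd_coprimes D.coprime hpb (e ▸ h2))
  obtain ⟨A, hAH, hA, hcard⟩ := H82.exists_elemAb_sq hp2 h hnc
  haveI : IsCyclic A := H2.isCyclic_of_fpf_subgroup A M (hnorm _) hM0
    (fun x hx => hfpf x (hAH hx)) (Or.inl hA.1)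
  obtain ⟨g, hg⟩ := IsCyclic.exists_generator (α := A)
  have h1 : orderOf g = p ^ 2 := (orderOf_eq_card_of_forall_mem_zpowers hg).trans hcard
  have h3 : g ^ p = 1 := Subtype.ext (by simpa using hA.2 g g.2)
  have h4 := Nat.le_of_dvd hp.pos (h1 ▸ orderOf_dvd_of_pow_eq_one h3)
  have := hp.two_le
  nlinarith

/-- An elementary abelian normal subgroup whose prime divides `c`. -/
theorem Full.c_normal_false (D : Full G a b c) (h2 : 2 ∣ c) (M : Subgroup G) [hMn : M.Normal]
    (hM0 : M ≠ ⊥) (hab : IsMulCommutative M) {r : ℕ} (hr : r.Prime) (hMr : IsPGroup r M)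
    (hrc : r ∣ c) : False := by
  haveI := Fact.mk hr
  haveI : Fact (Nat.Prime 2) := ⟨Nat.prime_two⟩
  obtain ⟨r0, hr0, hr0c, hr02⟩ := D.exists_odd_prime
  haveI := Fact.mk hr0
  have hcyc : ∀ y : G, cls y = c → IsCyclic (Cz y) := fun y =>
    D.cent_c_cyclic h2 M hM0 hab hr hMr hrc
  obtain ⟨u, -, hu⟩ := D.ec
  -- a central element in `M` and the involution with the same centraliser
  obtain ⟨R⟩ : Nonempty (Sylow r G) := inferInstance
  have hMR : M ≤ (R : Subgroup G) :=
    H27.CMN.le_sylow_of_normalised R hMr fun x _ m hm => hMn.conj_mem m hm x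
  have hne : M.subgroupOf (R : Subgroup G) ≠ ⊥ := by
    rw [Ne, subgroupOf_eq_bot, disjoint_iff, inf_eq_left.2 hMR]
    exact hM0
  obtain ⟨v, hvM, hvc, hvo⟩ := H6.exists_mem_center_orderOf R.isPGroup' hne
  have hvC : Central r (v : G) := ⟨(Subgroup.orderOf_coe v).trans hvo, R, v.2,
    fun g hg => mem_Cz.2 (congrArg Subtype.val (mem_center_iff.1 hvc ⟨g, hg⟩))⟩
  have hvb : cls (v : G) = b := D.cls_central hr hrc hvC
  obtain ⟨e, he⟩ := exists_central Nat.prime_two (D.dvd_card_of_c h2)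
  obtain ⟨g0, hg0⟩ := D.conj_cent h2 hr0 hr0c hr02 hvb Nat.prime_two h2 he
  set z := g0 * e * g0⁻¹ with hz
  have hzC : Central 2 z := he.conj g0
  have hzb : cls z = b := (cls_eq_of_Cz hg0).symm.trans hvb
  have hbz : ∀ w : G, cls w = b → ∃ g : G, Cz w = Cz (g * z * g⁻¹) := fun w hw =>
    D.conj_cent h2 hr0 hr0c hr02 hw Nat.prime_two h2 hzC
  have hX : ∀ g k : G, g * z * g⁻¹ ∈ Cz (k * z * k⁻¹) := by
    intro g k
    have e1 : ∀ g : G, Cz (g * z * g⁻¹) = Cz (g * (v : G) * g⁻¹) := fun g => by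
      rw [Cz_conj g z, Cz_conj g (v : G), hg0]
    have hvv : ∀ g : G, g * (v : G) * g⁻¹ ∈ M :=
      fun g => hMn.conj_mem _ (mem_subgroupOf.1 hvM) g
    have h1 : k * (v : G) * k⁻¹ ∈ Cz (g * z * g⁻¹) := by
      rw [e1]
      exact mem_Cz_of_comm hab (hvv k) (hvv g)
    rw [e1]
    exact mem_Cz_comm.1 h1
  set H := Cz u with hH
  have hcH : cc u = b := D.cc_of_c hu
  have hcz : cc z = c := D.cc_of_b hzb
  have hfac : H4.Factorizes H (Cz z) := factorizes_of_card
    (by show Nat.Coprime (cc u) (cc z); rw [hcH, hcz]; exact D.coprime)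
    (by show cc u * cc z = _; rw [hcH, hcz]; exact D.card_eq)
  have hfac' := hfac.symm
  set K0 := (Cz z).normalCore with hK0def
  have memK0 : ∀ x : G, x ∈ K0 ↔ ∀ g : G, x ∈ Cz (g * z * g⁻¹) := by
    intro x
    constructor
    · intro hx g
      refine H27.mem_cent_conj.2 ?_
      have := hx g⁻¹
      rwa [inv_inv] at this
    · intro hx g
      have h : g⁻¹⁻¹ * x * g⁻¹ ∈ Cz z := H27.mem_cent_conj.1 (hx g⁻¹)
      rwa [inv_inv] at h
  have hK0le : K0 ≤ Cz z := normalCore_le _
  have hHK : ∀ h ∈ H, ∀ g : G, h ∈ Cz (g * z * g⁻¹) → h = 1 := fun h hh g hg =>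
    D.eq_one_of_both (D.dvd_b_of_mem hu hh)
      (((Cz (g * z * g⁻¹)).orderOf_dvd_natCard hg).trans ((cc_conj g z).trans hcz).dvd)
  have hordC : ∀ x ∈ Cz z, orderOf x ∣ c := fun x hx => hcz ▸ (Cz z).orderOf_dvd_natCard hx
  -- an element of size `b` in `K0` is centralised by `K0`
  have hbK : ∀ x : G, cls x = b → x ∈ K0 → K0 ≤ Cz x := by
    intro x hx _
    obtain ⟨g, hg⟩ := hbz x hx
    rw [hg]
    exact fun y hy => (memK0 y).1 hy g
  -- `K0` is soluble
  have hK0s : Group.IsSolvable K0 := by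
    refine isSolvable_of_one (n := a / K0.index) fun x hx => ?_
    have hcomm : ∀ w : K0, w ∉ center K0 → cls (w : G) = a := by
      intro w hw
      have hw1 : (w : G) ≠ 1 := fun e => hw (by
        rw [show w = 1 from Subtype.ext e]; exact one_mem _)
      refine (D.cls_of_c_part hw1 (hordC _ (hK0le w.2))).1.resolve_right fun hwb => hw ?_
      exact mem_center_iff.2 fun y => Subtype.ext (mem_Cz.1 (hbK _ hwb w.2 y.2))
    obtain ⟨t, ht, e, hex, ⟨k, hk⟩, hec⟩ := H33.FS.exists_part x hx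
    have hle : Cz (x : G) ≤ K0 := by
      obtain ⟨i, hi⟩ := hex
      refine (Cz_le_of_mem_zpowers (y := (e : G)) ⟨i, ?_⟩).trans fun y hy => (memK0 y).2 fun g => ?_
      · rw [← hi]; simp
      · exact D.a_type_le h2 hr0 hr0c hr02
          ((cls_conj g z).trans hzb) ht ((Subgroup.orderOf_coe e).trans hk) (hcomm e hec)
          ((memK0 _).1 e.2 g) hy
    rw [cls_subgroup]
    refine (Nat.div_eq_of_eq_mul_left (Nat.pos_of_ne_zero index_ne_zero_of_finite) ?_).symm
    rw [relIndex_mul_index hle]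
    exact (hcomm x hx).symm
  by_cases halpha : ∀ g : G, Cz (g * z * g⁻¹) = Cz z → g ∈ Cz z
  swap
  · -- two conjugates with the same centraliser
    push Not at halpha
    obtain ⟨g, hg, hgn⟩ := halpha
    obtain ⟨h, hhH, k, hk, rfl⟩ := hfac g
    have hconj : h * k * z * (h * k)⁻¹ = h * z * h⁻¹ := by
      calc h * k * z * (h * k)⁻¹ = h * (k * z) * k⁻¹ * h⁻¹ := by group
        _ = h * (z * k) * k⁻¹ * h⁻¹ := by rw [mem_Cz.1 hk]
        _ = h * z * h⁻¹ := by group
    rw [hconj, Cz_conj] at hg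
    have hh1 : h ≠ 1 := fun e => hgn (by rw [e, one_mul]; exact hk)
    have hHc : IsMulCommutative H := by
      haveI := hcyc u hu
      letI := IsCyclic.commGroup (α := Cz u)
      exact ⟨⟨fun s t => mul_comm s t⟩⟩
    set N := normalizer (Cz z : Set G) with hN
    have hhN : h ∈ N := by
      rw [hN, Subgroup.mem_normalizer_iff]
      intro x
      constructor
      · intro hx
        exact hg ▸ Subgroup.mem_map_of_mem (MulAut.conj h).toMonoidHom hx
      · intro hx
        rw [← hg, Subgroup.mem_map] at hx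
        obtain ⟨w, hw, hwx⟩ := hx
        have : w = x := by simpa [MulAut.conj_apply] using hwx
        exact this ▸ hw
    have hCN : Cz z ≤ N := le_normalizer
    have hmem : ∀ s ∈ H, s ∈ N → s ∈ N.normalCore := by
      intro s hs hsN x
      obtain ⟨k', hk', h', hh', rfl⟩ := hfac' x
      have e : k' * h' * s * (k' * h')⁻¹ = k' * s * k'⁻¹ := by
        calc k' * h' * s * (k' * h')⁻¹ = k' * (h' * s) * h'⁻¹ * k'⁻¹ := by group
          _ = k' * (s * h') * h'⁻¹ * k'⁻¹ := by
            rw [show h' * s = s * h' from mem_Cz.1 (mem_Cz_of_comm hHc hh' hs)]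
          _ = k' * s * k'⁻¹ := by group
      rw [e]
      exact N.mul_mem (N.mul_mem (hCN hk') hsN) (N.inv_mem (hCN hk'))
    have hNc : ∀ x ∈ N, orderOf x ∣ c → x ∈ Cz z := by
      intro x hxN hxc
      obtain ⟨k', hk', h', hh', e⟩ := hfac' x
      have hh'N : h' ∈ N := by
        rw [show h' = k'⁻¹ * x by rw [e]; group]
        exact N.mul_mem (N.inv_mem (hCN hk')) hxN
      let q := QuotientGroup.mk' ((Cz z).subgroupOf N)
      have e1 : q ⟨h', hh'N⟩ = q ⟨x, hxN⟩ := by
        rw [show (⟨x, hxN⟩ : N) = ⟨k', hCN hk'⟩ * ⟨h', hh'N⟩ from Subtype.ext e, map_mul,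
          show q ⟨k', hCN hk'⟩ = 1 from (QuotientGroup.eq_one_iff _).2 (mem_subgroupOf.2 hk'),
          one_mul]
      have e2 : h' ^ c ∈ Cz z := by
        have h' : q ((⟨h', hh'N⟩ : N) ^ c) = 1 := by
          rw [map_pow, e1, ← map_pow, show (⟨x, hxN⟩ : N) ^ c = 1 from
            Subtype.ext (orderOf_dvd_iff_pow_eq_one.1 hxc), map_one]
        simpa using mem_subgroupOf.1 ((QuotientGroup.eq_one_iff _).1 h')
      have e3 : h' ^ c = 1 :=
        D.eq_one_of_both (D.dvd_b_of_mem hu (pow_mem hh' c)) (hordC _ e2)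
      rw [e, D.eq_one_of_both (D.dvd_b_of_mem hu hh') (orderOf_dvd_of_pow_eq_one e3), mul_one]
      exact hk'
    refine D.solvable_of_cover hcyc hu K0 hK0s N.normalCore (fun l hl => ?_) hhH
      (hmem h hhH hhN) hh1
    obtain ⟨h', hh', k', hk', rfl⟩ := hfac l
    have hlN : h' * k' ∈ N := normalCore_le _ hl
    have hh'N : h' ∈ N := by
      have := N.mul_mem hlN (N.inv_mem (hCN hk'))
      rwa [mul_inv_cancel_right] at this
    refine (K0 ⊔ H).mul_mem (le_sup_right (a := K0) hh') (le_sup_left (b := H) ?_)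
    refine fun x => hNc _ ?_ ((orderOf_conj' x k').symm ▸ hordC _ hk')
    have : k' = h'⁻¹ * (h' * k') := by group
    rw [this]
    exact (N.normalCore.mul_mem (N.normalCore.inv_mem (hmem h' hh' hh'N)) hl) x
  -- all conjugates have different centralisers
  have hinter : ∀ g x : G, g ∉ Cz z → x ∈ Cz z → x ∈ Cz (g * z * g⁻¹) → x ∈ K0 := by
    intro g x hg hx1' hx2'
    set z' := g * z * g⁻¹ with hz'
    have hz'b : cls z' = b := (cls_conj g z).trans hzb
    obtain ⟨e', he'⟩ := exists_central hr0 (D.dvd_card_of_c hr0c)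
    obtain ⟨g', hg'⟩ := D.conj_cent h2 hr0 hr0c hr02 hz'b hr0 hr0c he'
    set w := g' * e' * g'⁻¹ with hw
    have hzw : Commute z w := by
      have h : z ∈ Cz z' := by simpa [hz'] using hX 1 g
      exact mem_Cz.1 (hg' ▸ h)
    have hco : Nat.Coprime (orderOf z) (orderOf w) := coprime_orderOf_of_prime_ne Nat.prime_two hr0
      hr02.symm (hzC.ord.trans (pow_one 2).symm)
      ((show orderOf w = r0 by rw [hw, orderOf_conj', he'.ord]).trans (pow_one r0).symm)
    have hm : Cz (z * w) = Cz z ⊓ Cz z' := by rw [Cz_mul_eq hzw hco, hg']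
    have hma : cls (z * w) = a := by
      rcases D.b_or (mul_ne_one hzw hco (D.ne_one_of_b hzb))
        (hzb ▸ cls_dvd (hm.le.trans inf_le_left)) with h | h
      · exact h
      · exfalso
        refine hg (halpha g ?_)
        rw [← Cz_eq_of_cls (hm.le.trans inf_le_right) (h.trans hz'b.symm)]
        exact Cz_eq_of_cls (hm.le.trans inf_le_left) (h.trans hzb.symm)
    refine le_of_primePow (D := Cz z ⊓ Cz z') (K := K0) (fun t k ht y hy hyo => ?_) ⟨hx1', hx2'⟩
    rcases eq_or_ne y 1 with rfl | hy1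
    · exact one_mem _
    refine (memK0 y).2 fun j => mem_Cz_comm.1 ?_
    rcases (D.cls_of_c_part hy1 (hordC _ hy.1)).1 with hya | hyb
    · have hle : Cz y ≤ Cz z ⊓ Cz z' := le_inf
        (D.a_type_le h2 hr0 hr0c hr02 hzb ht hyo hya hy.1)
        (D.a_type_le h2 hr0 hr0c hr02 hz'b ht hyo hya hy.2)
      rw [Cz_eq_of_cls (hm ▸ hle) (hya.trans hma.symm), hm]
      exact ⟨by simpa using hX j 1, hX j g⟩
    · obtain ⟨l, hl⟩ := hbz y hyb
      rw [hl]
      exact hX j l
  classical
  let F : (G ⧸ Cz z) × {d : Cz z // (d : G) ∉ K0} → G := fun x => x.1.out * (x.2.1 : G) * x.1.out⁻¹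
  have hF : Function.Injective F := by
    rintro ⟨q, ⟨d, hd⟩⟩ ⟨q', ⟨d', hd'⟩⟩ hqq
    simp only [F] at hqq
    have e1 : (d : G) = (q.out⁻¹ * q'.out) * d' * (q.out⁻¹ * q'.out)⁻¹ := by
      calc (d : G) = q.out⁻¹ * (q.out * d * q.out⁻¹) * q.out := by group
        _ = _ := by rw [hqq]; group
    have hv : q.out⁻¹ * q'.out ∈ Cz z := by
      by_contra hv
      refine hd (hinter _ _ hv d.2 ?_)
      refine H27.mem_cent_conj.2 ?_
      rw [e1]
      have hd'' := d'.2
      convert hd'' using 1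
      group
    have hq : q = q' := by
      rw [← QuotientGroup.out_eq' q, ← QuotientGroup.out_eq' q']
      exact QuotientGroup.eq.2 hv
    subst hq
    exact Prod.ext rfl (Subtype.ext (Subtype.ext (mul_left_cancel (mul_right_cancel hqq))))
  let B : {h : H // h ≠ 1} × K0 → G := fun x => (x.1.1 : G) * x.2
  have hB : Function.Injective B := by
    rintro ⟨⟨h, hh⟩, k⟩ ⟨⟨h', hh'⟩, k'⟩ e
    have e' : (h : G) * k = h' * k' := e
    have e1 : (h' : G)⁻¹ * h = k' * (k : G)⁻¹ := by
      calc (h' : G)⁻¹ * h = (h' : G)⁻¹ * ((h : G) * k) * (k : G)⁻¹ := by group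
        _ = _ := by rw [e']; group
    have h1 : (h' : G)⁻¹ * h = 1 := by
      refine hHK _ (H.mul_mem (H.inv_mem h'.2) h.2) 1 ?_
      rw [e1]
      exact (memK0 _).1 (K0.mul_mem k'.2 (K0.inv_mem k.2)) 1
    have e2 : (h : G) = h' := (inv_mul_eq_one.1 h1).symm
    rw [e2] at e'
    exact Prod.ext (Subtype.ext (Subtype.ext e2)) (Subtype.ext (mul_left_cancel e'))
  have hFout : ∀ x, ∃ g : G, F x ∈ Cz (g * z * g⁻¹) := fun x => ⟨x.1.out, H27.mem_cent_conj.2 (by
    have h := x.2.1.2
    convert h using 1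
    simp only [F]; group)⟩
  have hBout : ∀ x, ∀ g : G, B x ∉ Cz (g * z * g⁻¹) := by
    intro x g hx
    refine x.1.2 (Subtype.ext (hHK _ x.1.1.2 g ?_))
    have := (Cz (g * z * g⁻¹)).mul_mem hx
      ((Cz (g * z * g⁻¹)).inv_mem ((memK0 _).1 x.2.2 g))
    simpa [B] using this
  let F' : (((G ⧸ Cz z) × {d : Cz z // (d : G) ∉ K0}) ⊕ K0) ⊕ ({h : H // h ≠ 1} × K0) → G :=
    Sum.elim (Sum.elim F Subtype.val) B
  have hF' : Function.Injective F' := by
    refine (hF.sumElim Subtype.val_injective fun x k e => ?_).sumElim hB ?_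
    · refine x.2.2 ?_
      have h : x.1.out⁻¹ * F x * x.1.out⁻¹⁻¹ ∈ K0 :=
        (inferInstance : K0.Normal).conj_mem _ (e.symm ▸ k.2) _
      convert h using 1
      simp only [F]; group
    · rintro (x | k) y e
      · obtain ⟨g, hg⟩ := hFout x
        exact hBout y g (e ▸ hg)
      · exact hBout y 1 (e ▸ (memK0 _).1 k.2 1)
  have hcard : Nat.card ((((G ⧸ Cz z) × {d : Cz z // (d : G) ∉ K0}) ⊕ K0) ⊕
      ({h : H // h ≠ 1} × K0)) = Nat.card G := by
    have hidx : Nat.card (G ⧸ Cz z) = b := hzb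
    have hsub : Nat.card {d : Cz z // (d : G) ∉ K0} + Nat.card K0 = c := by
      rw [← hcz, show Nat.card K0 = Nat.card {d : Cz z // (d : G) ∈ K0} from
        Nat.card_congr ((Equiv.subtypeSubtypeEquivSubtype fun {x} hx => hK0le hx).symm), add_comm,
        ← Nat.card_sum]
      exact Nat.card_congr (Equiv.sumCompl fun d : Cz z => (d : G) ∈ K0)
    have hsub' : Nat.card {h : H // h ≠ 1} + 1 = b := by
      rw [← hcH]
      show _ = Nat.card (Cz u)
      rw [← Finite.card_option]
      exact Nat.card_congr (Equiv.optionSubtypeNe (1 : Cz u))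
    rw [Nat.card_sum, Nat.card_sum, Nat.card_prod, Nat.card_prod, hidx, ← D.card_eq, ← hsub,
      ← hsub']
    ring
  have hall := (hF'.bijective_of_nat_card_le hcard.ge).2
  have hL : normalClosure (H : Set G) ≤ K0 ⊔ H := by
    rw [normalClosure, closure_le]
    intro x hx
    obtain ⟨v, hv, hx⟩ := Group.mem_conjugatesOfSet_iff.1 hx
    obtain ⟨g, rfl⟩ := isConj_iff.1 hx
    rcases eq_or_ne v 1 with rfl | hv1
    · simp
    have hnot : ∀ j : G, g * v * g⁻¹ ∉ Cz (j * z * j⁻¹) := fun j hj =>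
      hv1 (D.eq_one_of_both (D.dvd_b_of_mem hu hv) (by
        rw [← orderOf_conj' g v, ← hcz, ← cc_conj j z]
        exact (Cz (j * z * j⁻¹)).orderOf_dvd_natCard hj))
    obtain ⟨(y | k) | y, hy⟩ := hall (g * v * g⁻¹)
    · obtain ⟨j, hj⟩ := hFout y
      exact absurd ((show F y = _ from hy) ▸ hj) (hnot j)
    · exact absurd ((show (k : G) = _ from hy) ▸ (memK0 _).1 k.2 1) (hnot 1)
    · rw [← (show B y = _ from hy)]
      exact (K0 ⊔ H).mul_mem (le_sup_right (a := K0) y.1.1.2) (le_sup_left (b := H) y.2.2)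
  exact D.solvable_of_cover hcyc hu K0 hK0s (normalClosure (H : Set G)) hL (self_mem_Cz u)
    (subset_normalClosure (self_mem_Cz u)) (D.ne_one_of_c hu)

end H87.ThreeSize
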