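import Mathlib
import Cfsg.Agent.H87.ThreeSize.Central
import Cfsg.Agent.H35.Subnormal
import Cfsg.Agent.H6.Basic
import Cfsg.Agent.H1.FPF
import Cfsg.Agent.H1.ThompsonComplement
import Cfsg.Agent.H8.Rank3Chars
import Cfsg.Agent.H85.BrauerSuzuki
import Cfsg.Agent.S0143

/-!
Three class sizes with the prime two outside `b`: minimal normal subgroups are elementary abelian.
-/

set_option autoImplicit false
set_option linter.unusedSectionVars false
set_option linter.style.haveILetI false

namespace H87.ThreeSize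

open Subgroup H8.Rank3 H33.FS

universe u

variable {G : Type u} [Group G] [Finite G] {a b c : ℕ}

/-- A minimal normal subgroup which is soluble is an elementary abelian group. -/
theorem minimal_normal_elementary (K : Subgroup G) [hK : K.Normal] (hK0 : K ≠ ⊥)
    (hs : Group.IsSolvable K)
    (hmin : ∀ B : Subgroup G, B.Normal → B ≤ K → B = ⊥ ∨ B = K) :
    ∃ r : ℕ, r.Prime ∧ IsMulCommutative K ∧ IsPGroup r K := by
  haveI : Nontrivial K := (Subgroup.nontrivial_iff_ne_bot K).2 hK0
  haveI := hs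
  have hlt := Group.IsSolvable.commutator_lt_top_of_nontrivial K
  have hcomm : ⁅K, K⁆ = ⊥ := by
    have h2 : ⁅K, K⁆ = (commutator K).map K.subtype := (Subgroup.map_subtype_commutator K).symm
    rcases hmin ⁅K, K⁆ inferInstance (Subgroup.commutator_le_self K) with h | h
    · exact h
    · exfalso
      rw [h2] at h
      refine hlt.ne (Subgroup.map_injective K.subtype_injective ?_)
      rw [h, ← MonoidHom.range_eq_map, Subgroup.range_subtype]
  have hab : ∀ a ∈ K, ∀ b ∈ K, a * b = b * a := by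
    intro a ha b hb
    have := Subgroup.commutator_mem_commutator ha hb
    rw [hcomm, Subgroup.mem_bot, commutatorElement_eq_one_iff_mul_comm] at this
    exact this
  obtain ⟨p, hp, hpd⟩ := Nat.exists_prime_and_dvd
    (n := Nat.card K) (fun h => hK0 (Subgroup.card_eq_one.1 h))
  let B : Subgroup G :=
    { carrier := {x | x ∈ K ∧ x ^ p = 1}
      one_mem' := ⟨K.one_mem, one_pow p⟩
      mul_mem' := fun {a b} ha hb => ⟨K.mul_mem ha.1 hb.1, by
        rw [Commute.mul_pow (hab a ha.1 b hb.1), ha.2, hb.2, one_mul]⟩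
      inv_mem' := fun {a} ha => ⟨K.inv_mem ha.1, by rw [inv_pow, ha.2, inv_one]⟩ }
  have hBn : B.Normal := ⟨fun x hx g => ⟨hK.conj_mem x hx.1 g, by
    rw [conj_pow, hx.2, mul_one, mul_inv_cancel]⟩⟩
  haveI := Fact.mk hp
  obtain ⟨z, hz⟩ := exists_prime_orderOf_dvd_card' p hpd
  have hBK : B = K := by
    refine (hmin B hBn fun x hx => hx.1).resolve_left fun h => ?_
    have hzB : (z : G) ∈ B := ⟨z.2, by
      rw [← Subgroup.coe_pow, ← hz, pow_orderOf_eq_one, Subgroup.coe_one]⟩
    rw [h, Subgroup.mem_bot] at hzB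
    exact ne_one_of_prime hp hz (Subtype.ext hzB)
  refine ⟨p, hp, ⟨⟨fun a b => Subtype.ext (hab a a.2 b b.2)⟩⟩, fun x => ⟨1, ?_⟩⟩
  have hx : (x : G) ∈ B := hBK.symm ▸ x.2
  exact Subtype.ext (by simpa using hx.2)

/-- A subgroup of order prime to `b` normalised by an element whose prime divides `b` is nilpotent. -/
theorem Full.solvable_of_normalised (D : Full G a b c) {p : ℕ} (hp : p.Prime) (hpb : p ∣ b) {y : G}
    (hy : orderOf y = p) {N : Subgroup G} (hn : y ∈ normalizer (N : Set G))
    (hco : Nat.Coprime (Nat.card N) b) : Group.IsSolvable N := by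
  set L := normalizer (N : Set G) with hL
  set φ : MulAut (N.subgroupOf L) := MulAut.conjNormal (⟨y, hn⟩ : L) with hφ
  have hfix : ∀ x : N.subgroupOf L, φ x = x → x = 1 := by
    intro x hx
    have hc : y * ((x : L) : G) * y⁻¹ = ((x : L) : G) :=
      congrArg (fun w : N.subgroupOf L => ((w : L) : G)) hx
    have hxN : ((x : L) : G) ∈ N := mem_subgroupOf.1 x.2
    have h1 : orderOf ((x : L) : G) ∣ c := by
      refine Nat.Coprime.dvd_of_dvd_mul_left (Nat.Coprime.coprime_dvd_left (N.orderOf_dvd_natCard hxN) hco) ?_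
      rw [D.card_eq]
      exact orderOf_dvd_natCard _
    exact Subtype.ext (Subtype.ext (D.eq_one_of_commute (ne_one_of_prime hp hy) (hy ▸ hpb) h1
      (mul_inv_eq_iff_eq_mul.1 hc)))
  have hφq : φ ^ p = 1 := by
    rw [hφ, ← map_pow, show (⟨y, hn⟩ : L) ^ p = 1 from Subtype.ext (by
      simp [← hy, pow_orderOf_eq_one]), map_one]
  haveI : Group.IsNilpotent (N.subgroupOf L) :=
    H1.nilpotent_of_fpf (fun G _ _ r _ hr P hN hC => H1.thompson_normal_p_complement hr P hN hC)
      φ hp hφq hfix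
  exact Group.isSolvable_of_surjective
    (f := (Subgroup.subgroupOfEquivOfLe (H := N) (K := L) le_normalizer).toMonoidHom)
    (Subgroup.subgroupOfEquivOfLe (H := N) (K := L) le_normalizer).surjective

theorem isSolvable_of_not_two_dvd {K : Type u} [Group K] [Finite K] (h : ¬ 2 ∣ Nat.card K) :
    Group.IsSolvable K :=
  H16.FT.oddOrder (Nat.not_even_iff_odd.1 fun h' => h h'.two_dvd)

theorem Full.minimal_simple (D : Full G a b c) (h2 : 2 ∣ c) (M : Subgroup G) [hMn : M.Normal]
    (hmin : ∀ B : Subgroup G, B.Normal → B ≤ M → B = ⊥ ∨ B = M)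
    (hns : ¬ Group.IsSolvable M) : IsSimpleGroup M := by
  haveI : Nontrivial M := by
    by_contra h
    rw [not_nontrivial_iff_subsingleton] at h
    exact hns (Group.isSolvable_of_comm fun x y => Subsingleton.elim _ _)
  obtain ⟨p, hp, hpb⟩ := Nat.exists_prime_and_dvd D.one_lt_b.ne'
  haveI := Fact.mk hp
  obtain ⟨q₀, hq₀, hq₀b, y, hy, hyM⟩ :
      ∃ q : ℕ, q.Prime ∧ q ∣ b ∧ ∃ y : G, orderOf y = q ∧ y ∈ M := by
    obtain ⟨y0, hy0⟩ := exists_prime_orderOf_dvd_card' p
      (hpb.trans (D.card_eq ▸ Dvd.intro c rfl))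
    by_contra hno
    push Not at hno
    refine hns (D.solvable_of_normalised hp hpb hy0 (by rw [normalizer_eq_top_iff.2 hMn]; trivial) ?_)
    refine Nat.coprime_of_dvd fun q hq hqM hqb => ?_
    haveI := Fact.mk hq
    obtain ⟨⟨x, hxM⟩, hx⟩ := exists_prime_orderOf_dvd_card' q hqM
    rw [Subgroup.orderOf_mk] at hx
    exact hno q hq hqb x hx hxM
  refine ⟨fun T hT => ?_⟩
  by_contra hcon
  push Not at hcon
  haveI := hT
  obtain ⟨K, hK, hK0, hKT, hKmin⟩ := H35.exists_minimal_normal_le T hcon.1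
  have hKtop : K ≠ ⊤ := fun h => hcon.2 (top_le_iff.1 (h ▸ hKT))
  haveI := hK
  -- conjugates of `K`
  let cj : G → Subgroup M := fun g => K.map (MulAut.conjNormal g : MulAut M).toMonoidHom
  have hcn : ∀ g, (cj g).Normal := fun g => hK.map _ (MulAut.conjNormal g : MulAut M).surjective
  have hKs : ¬ Group.IsSolvable K := by
    intro hs
    obtain ⟨r, hr, -, hKp⟩ := minimal_normal_elementary K hK0 hs hKmin
    haveI := Fact.mk hr
    obtain ⟨Q⟩ : Nonempty (Sylow r M) := inferInstance
    have hall : ∀ g, cj g ≤ (Q : Subgroup M) := fun g =>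
      H27.CMN.le_sylow_of_normalised Q (hKp.map _) fun u _ x hx => (hcn g).conj_mem x hx u
    have hle : normalClosure ((K.map M.subtype : Subgroup G) : Set G) ≤
        (Q : Subgroup M).map M.subtype := by
      rw [normalClosure, closure_le]
      intro w hw
      obtain ⟨v, hv, hw⟩ := Group.mem_conjugatesOfSet_iff.1 hw
      obtain ⟨k, hk, rfl⟩ := hv
      obtain ⟨g, rfl⟩ := isConj_iff.1 hw
      exact ⟨MulAut.conjNormal g k, hall g ⟨k, hk, rfl⟩, MulAut.conjNormal_apply g k⟩
    have hsub : normalClosure ((K.map M.subtype : Subgroup G) : Set G) ≤ M :=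
      normalClosure_le_normal (Subgroup.map_subtype_le K)
    rcases hmin _ normalClosure_normal hsub with h | h
    · refine hK0 ((map_eq_bot_iff_of_injective K M.subtype_injective).1 ?_)
      exact eq_bot_iff.2 (h ▸ subset_normalClosure)
    · have hMp : IsPGroup r M := (Q.isPGroup'.map M.subtype).to_le (h.symm.le.trans hle)
      haveI := hMp.isNilpotent
      exact hns inferInstance
  have hK2 : 2 ∣ Nat.card K := by
    by_contra h
    exact hKs (isSolvable_of_not_two_dvd h)
  have hKb : ¬ Nat.Coprime (Nat.card K) b := by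
    intro hco
    have hym : y ∈ normalizer ((K.map M.subtype : Subgroup G) : Set G) := by
      refine mem_normalizer_iff.2 fun x => ⟨?_, fun h => ?_⟩
      · rintro ⟨k, hk, rfl⟩
        exact ⟨⟨y, hyM⟩ * k * ⟨y, hyM⟩⁻¹, hK.conj_mem k hk _, rfl⟩
      · obtain ⟨k, hk, hkx⟩ := h
        refine ⟨⟨y, hyM⟩⁻¹ * k * ⟨y, hyM⟩, by simpa using hK.conj_mem k hk ⟨y, hyM⟩⁻¹, ?_⟩
        show y⁻¹ * (k : G) * y = x
        rw [show (k : G) = y * x * y⁻¹ from hkx]
        group
    have hs := D.solvable_of_normalised hq₀ hq₀b hy hym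
      (by rwa [Subgroup.card_map_of_injective M.subtype_injective])
    haveI := hs
    exact hKs (Group.isSolvable_of_surjective
      (f := (K.equivMapOfInjective M.subtype M.subtype_injective).symm.toMonoidHom)
      (K.equivMapOfInjective M.subtype M.subtype_injective).symm.surjective)
  obtain ⟨g, hg⟩ : ∃ g, cj g ≠ K := by
    by_contra h
    push Not at h
    have hn : (K.map M.subtype).Normal := by
      refine ⟨?_⟩
      rintro _ ⟨k, hk, rfl⟩ g
      exact ⟨MulAut.conjNormal g k, (h g) ▸ mem_map_of_mem _ hk, MulAut.conjNormal_apply g k⟩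
    rcases hmin _ hn (Subgroup.map_subtype_le K) with h' | h'
    · exact hK0 ((map_eq_bot_iff_of_injective K M.subtype_injective).1 h')
    · exact hKtop (Subgroup.map_injective M.subtype_injective (by
        rw [h', ← MonoidHom.range_eq_map, range_subtype]))
  haveI := hcn g
  have hcard : Nat.card (cj g) = Nat.card K :=
    Subgroup.card_map_of_injective (MulAut.conjNormal g : MulAut M).injective
  have hdis : Disjoint K (cj g) := by
    rw [disjoint_iff]
    refine (hKmin (K ⊓ cj g) inferInstance inf_le_left).resolve_right fun h => ?_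
    exact hg (eq_of_le_of_card_ge (inf_eq_left.1 h) hcard.le).symm
  obtain ⟨q, hq, hqK, hqb⟩ := Nat.Prime.not_coprime_iff_dvd.1 hKb
  haveI := Fact.mk hq
  haveI : Fact (Nat.Prime 2) := ⟨Nat.prime_two⟩
  obtain ⟨⟨x, hxK⟩, hx⟩ := exists_prime_orderOf_dvd_card' q hqK
  obtain ⟨⟨t, htK⟩, ht⟩ := exists_prime_orderOf_dvd_card' (G := cj g) 2 (hcard.symm ▸ hK2)
  rw [Subgroup.orderOf_mk, ← Subgroup.orderOf_coe] at hx ht
  have hc : Commute (x : G) (t : G) := congrArg Subtype.val
    (Subgroup.commute_of_normal_of_disjoint K (cj g) hK (hcn g) hdis x t hxK htK).eq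
  exact ne_one_of_prime Nat.prime_two ht
    (D.eq_one_of_commute (ne_one_of_prime hq hx) (hx ▸ hqb) (ht ▸ h2) hc)

theorem Cz_coe (M : Subgroup G) (x : M) : Cz x = (Cz (x : G)).subgroupOf M := by
  ext y
  rw [mem_subgroupOf, mem_Cz, mem_Cz, Subtype.ext_iff]
  rfl

theorem card_Cz_coe_dvd (M : Subgroup G) (x : M) : cc x ∣ cc (x : G) :=
  Subgroup.card_dvd_of_injective
    ((M.subtype.comp (Cz x).subtype).codRestrict (Cz (x : G)) fun w => mem_subgroupOf.1
      ((Cz_coe M x).le w.2))
    fun s t h => Subtype.ext (Subtype.ext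
      (show ((s : M) : G) = ((t : M) : G) from (congrArg Subtype.val h :)))

/-- Minimal normal subgroups are soluble. -/
theorem Full.minimal_solvable (D : Full G a b c) (h2 : 2 ∣ c) (M : Subgroup G) [hMn : M.Normal]
    (hmin : ∀ B : Subgroup G, B.Normal → B ≤ M → B = ⊥ ∨ B = M) : Group.IsSolvable M := by
  by_contra hns
  haveI := D.minimal_simple h2 M hmin hns
  have hna : ¬ IsMulCommutative M := fun h => hns (Group.isSolvable_of_comm h.is_comm.comm)
  haveI : Fact (Nat.Prime 2) := ⟨Nat.prime_two⟩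
  obtain ⟨p, hp, hpb⟩ := Nat.exists_prime_and_dvd D.one_lt_b.ne'
  haveI := Fact.mk hp
  -- an element of `M` of size `c`
  obtain ⟨u, hu⟩ : ∃ u : M, cls (u : G) = c := by
    by_contra hno
    push Not at hno
    obtain ⟨y0, hy0⟩ := exists_prime_orderOf_dvd_card' p
      (hpb.trans (D.card_eq ▸ Dvd.intro c rfl))
    refine hns (D.solvable_of_normalised hp hpb hy0 (by rw [normalizer_eq_top_iff.2 hMn]; trivial) ?_)
    refine Nat.coprime_of_dvd fun q hq hqM hqb => ?_
    haveI := Fact.mk hq
    obtain ⟨x, hx⟩ := exists_prime_orderOf_dvd_card' q hqM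
    rw [← Subgroup.orderOf_coe] at hx
    exact hno x (D.cls_of_b_part (ne_one_of_prime hq hx) (hx ▸ hqb))
  -- a central involution in `M`
  obtain ⟨z, hzC⟩ : ∃ z : M, Central 2 (z : G) := by
    have h2M : 2 ∣ Nat.card M := two_dvd_card hna
    obtain ⟨S⟩ : Nonempty (Sylow 2 G) := inferInstance
    obtain ⟨t, ht⟩ := exists_prime_orderOf_dvd_card' 2 h2M
    obtain ⟨g, hg⟩ := exists_conj_mem (r := 2) (H := (S : Subgroup G)) S.not_dvd_index
      (x := (t : G)) (k := 1) (by rw [Subgroup.orderOf_coe, ht, pow_one])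
    have hne : M.subgroupOf (S : Subgroup G) ≠ ⊥ := fun h => by
      have hm : (⟨_, hg⟩ : (S : Subgroup G)) ∈ M.subgroupOf (S : Subgroup G) :=
        mem_subgroupOf.2 (hMn.conj_mem _ t.2 g)
      rw [h, Subgroup.mem_bot] at hm
      exact ne_one_of_prime Nat.prime_two ht
        (Subtype.ext (conj_eq_one_iff.1 (congrArg Subtype.val hm)))
    obtain ⟨z, hzM, hzc, hzo⟩ := H6.exists_mem_center_orderOf S.isPGroup' hne
    refine ⟨⟨z, mem_subgroupOf.1 hzM⟩, ⟨(Subgroup.orderOf_coe z).trans hzo, S, z.2, ?_⟩⟩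
    intro g hg
    exact mem_Cz.2 (congrArg Subtype.val (mem_center_iff.1 hzc ⟨g, hg⟩))
  have hzb : cls (z : G) = b := D.cls_central Nat.prime_two h2 hzC
  have hz1 : z ≠ 1 := fun e => D.ne_one_of_b hzb (congrArg Subtype.val e)
  have h3 : cc u ∣ b := D.cc_of_c hu ▸ card_Cz_coe_dvd M u
  have h4 : cls u ∣ c := hu ▸ H27.index_cent_normal_dvd M u
  have h5 : cc z ∣ c := D.cc_of_b hzb ▸ card_Cz_coe_dvd M z
  have h6 : cls z ∣ b := hzb ▸ H27.index_cent_normal_dvd M z
  have he : cls z = cc u := by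
    have e1 : cc u * cls u = cls z * cc z := by
      rw [cc_mul_cls u, mul_comm, cc_mul_cls z]
    refine Nat.dvd_antisymm ?_ ?_
    · exact ((D.coprime.coprime_dvd_left h6).coprime_dvd_right h4).dvd_of_dvd_mul_right
        ⟨cc z, e1⟩
    · exact ((D.coprime.coprime_dvd_left h3).coprime_dvd_right h5).dvd_of_dvd_mul_right
        ⟨cls u, e1.symm⟩
  rcases D.cent_c_kind hu with hab | ⟨q, hq, -, hqp⟩
  swap
  · haveI := Fact.mk hq
    have hH : IsPGroup q (Cz u) := by
      rw [Cz_coe]
      exact (hqp.comap_of_injective M.subtype M.subtype_injective)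
    obtain ⟨k, hk⟩ := hH.exists_card_eq
    have hpr := Cfsg.Agent.S0143.result q k hq z hz1 (he.trans hk)
    haveI := Fact.mk hpr
    haveI := isCyclic_of_prime_card (α := M) rfl
    exact hna inferInstance
  haveI := Fintype.ofFinite M
  have key : ∀ x : M, x ∈ Cz u → x ≠ 1 → Cz x = Cz u := by
    intro x hx hx1
    rw [Cz_coe, Cz_coe, D.cent_eq_of_comm hu hab (mem_subgroupOf.1 (Cz_coe M u ▸ hx))
      fun e => hx1 (Subtype.ext e)]
  have hyp : H13.TI.Hyp (Cz u) :=
    { cent := fun g x hx hx1 hg => key x hx hx1 ▸ mem_Cz.2 hg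
      ti := fun g x hx hx1 hgx => by
        have e : (Cz u).map (MulAut.conj g).toMonoidHom = Cz u := by
          conv_lhs => rw [← key x hx hx1, ← Cz_conj]
          exact key _ hgx fun h => hx1 (conj_eq_one_iff.1 h)
        rw [Subgroup.mem_normalizer_iff]
        intro w
        constructor
        · intro hw
          exact e ▸ Subgroup.mem_map_of_mem (MulAut.conj g).toMonoidHom hw
        · intro hw
          rw [← e, Subgroup.mem_map] at hw
          obtain ⟨v, hv, hvw⟩ := hw
          have : v = w := by simpa [MulAut.conj_apply] using hvw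
          exact this ▸ hv }
  have hcomm : ∀ s t : Cz u, s * t = t * s := fun s t => Subtype.ext (Subtype.ext
    (congrArg Subtype.val (hab.is_comm.comm
      ⟨_, mem_subgroupOf.1 ((Cz_coe M u).le s.2)⟩ ⟨_, mem_subgroupOf.1 ((Cz_coe M u).le t.2)⟩) :))
  have hiso : Cfsg.IsIsolatedInvolution z := by
    refine ⟨by rw [← Subgroup.orderOf_coe]; exact hzC.ord, fun g hg => ?_⟩
    have h7 := mem_of_conj_mem hna hyp hcomm (B := Cz z)
      ((D.coprime.coprime_dvd_left h3).coprime_dvd_right h5)
      (by show cc z * cc u = _; rw [← he]; exact cc_mul_cls z)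
      hz1 (self_mem_Cz z) he (x := g⁻¹) (mem_Cz.2 (by rw [inv_inv]; exact hg.eq.symm))
    rw [mem_Cz.1 ((inv_mem_iff (H := Cz z)).1 h7), mul_inv_cancel_right]
  have hzz := H85.zStar hiso
  refine Cz_ne_top hna hz1 (eq_top_iff.2 fun g _ => mem_Cz.2 ?_)
  have h := hzz g
  rw [pPrimeCore_eq_bot hna, Subgroup.mem_bot] at h
  calc g * z = 1 * (g * z) := (one_mul _).symm
    _ = z * g * z⁻¹ * g⁻¹ * (g * z) := by rw [h]
    _ = z * g := by group

end H87.ThreeSize
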