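import Mathlib
import Cfsg.Agent.H87.ThreeSize.Minimal
import Cfsg.Agent.H87.ThreeSize.Affine
import Cfsg.Agent.H39.AIC.Main
import Cfsg.Agent.S3192
import Cfsg.Agent.S4160

/-!
Groups with trivial centre and three further class sizes are soluble unless their involution
centralisers are abelian, and then they are `PSL(2, 2 ^ n)`.
-/

set_option autoImplicit false
set_option linter.unusedSectionVars false
set_option linter.style.haveILetI false

namespace H87.ThreeSize

open Subgroup H8.Rank3 H33.FS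

universe u

variable {G : Type u} [Group G] [Finite G] {a b c : ℕ}

theorem two_dvd_card_of_not_solvable (hns : ¬ Group.IsSolvable G) : 2 ∣ Nat.card G := by
  by_contra h
  exact hns (isSolvable_of_not_two_dvd h)

/-- A non-soluble group with trivial centre and abelian involution centralisers. -/
theorem exists_psl (hZ : center G = ⊥) (hns : ¬ Group.IsSolvable G)
    (hinv : ∀ t : G, orderOf t = 2 → IsMulCommutative (Cz t)) :
    ∃ (F : Type) (_ : Field F) (_ : Fintype F), CharP F 2 ∧ 4 ≤ Fintype.card F ∧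
      Nonempty (G ≃* Matrix.ProjectiveSpecialLinearGroup (Fin 2) F) := by
  haveI : Fact (Nat.Prime 2) := ⟨Nat.prime_two⟩
  have h2 := two_dvd_card_of_not_solvable hns
  obtain ⟨T⟩ : Nonempty (Sylow 2 G) := Sylow.nonempty
  have hnc : ¬ IsCyclic (T : Subgroup G) := fun hcy => by
    have hP := hcy.normalizer_le_centralizer ((Nat.minFac_eq_two_iff _).2 h2)
    have hc := MonoidHom.ker_transferSylow_isComplement' T hP
    refine hns (isSolvable_of_pGroup_quotient (p := 2) (MonoidHom.transferSylow T hP).ker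
      (isSolvable_of_not_two_dvd (K := (MonoidHom.transferSylow T hP).ker) ?_)
      (k := (Nat.card G).factorization 2) ?_)
    · rw [← hc.index_eq_card]
      exact T.not_dvd_index
    · rw [hc.symm.index_eq_card]
      exact T.card_eq_multiplicity
  have hnn : ¬ (T : Subgroup G).Normal := fun hn => by
    haveI := hn
    haveI := T.isPGroup'.isNilpotent
    refine hns (H1.isSolvable_of_normal (T : Subgroup G) inferInstance (isSolvable_of_not_two_dvd ?_))
    rw [← Subgroup.index_eq_card]
    exact T.not_dvd_index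
  obtain ⟨F, iF, iFF, φ, hchar, hq, hφs, hφc, -⟩ :=
    H39.AIC.result_of_data (Nat.card G) G T rfl ⟨hnc, hnn, hinv⟩
  have hinj : Function.Injective φ := by
    rw [← MonoidHom.ker_eq_bot_iff, eq_bot_iff, ← hZ]
    exact hφc
  exact ⟨F, iF, iFF, hchar, hq, ⟨MulEquiv.ofBijective φ ⟨hinj, hφs⟩⟩⟩

theorem Full.false_of_invol_comm (D : Full G a b c)
    (hinv : ∀ t : G, orderOf t = 2 → IsMulCommutative (Cz t)) : False := by
  obtain ⟨F, iF, iFF, hchar, hq, ⟨e⟩⟩ := exists_psl D.center_eq D.ns hinv
  haveI := hchar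
  obtain ⟨x, hx, hxa⟩ := D.ea
  obtain ⟨y, hy, hyb⟩ := D.eb
  have hmem : ∀ w : G, w ≠ 1 → cc w = Fintype.card F ∨ cc w = Fintype.card F + 1 ∨
      cc w = Fintype.card F - 1 := by
    intro w hw
    have h : cc w ∈ {n : ℕ | ∃ x : Matrix.ProjectiveSpecialLinearGroup (Fin 2) F,
        x ≠ 1 ∧ n = cc x} :=
      ⟨e w, fun h => hw ((MulEquiv.map_eq_one_iff e).1 h),
        Cfsg.Agent.S3192.centraliser_equiv_card e w⟩
    rw [Cfsg.Agent.S3192.psl_orders hq] at h
    simpa using h
  have h1 : cc x * a = Nat.card G := hxa ▸ cc_mul_cls x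
  have h2 : cc y * b = Nat.card G := hyb ▸ cc_mul_cls y
  obtain ⟨k, hk⟩ := D.hab
  have hdvd : cc x ∣ cc y := by
    refine ⟨k, Nat.eq_of_mul_eq_mul_right (by have := D.one_lt_b; omega) (h2.trans ?_)⟩
    rw [← h1, hk]; ring
  have hne : cc x ≠ cc y := fun h => D.ne_ab (by
    rw [h] at h1
    exact Nat.eq_of_mul_eq_mul_left (cc_pos y) (h1.trans h2.symm))
  have hle := Nat.le_of_dvd (cc_pos y) hdvd
  set q := Fintype.card F
  have small : ∀ d m : ℕ, d ∣ m → d ∣ m + 1 → d = 1 := fun d m h h' =>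
    Nat.dvd_one.1 ((Nat.dvd_add_right h).1 h')
  rcases hmem x hx with e1 | e1 | e1 <;> rcases hmem y hy with e2 | e2 | e2 <;>
    rw [e1, e2] at hdvd hne hle
  all_goals try omega
  · have := small q q dvd_rfl hdvd; omega
  · have := small (q - 1) (q - 1) dvd_rfl (by rwa [Nat.sub_add_cancel (by omega)]); omega
  · have h3 : q - 1 ∣ 2 := by
      refine (Nat.dvd_add_right (dvd_refl (q - 1))).1 ?_
      rwa [show q - 1 + 2 = q + 1 by omega]
    have := Nat.le_of_dvd (by norm_num) h3
    omega

/-- Three class sizes, one a multiple of another, the primes of the third dividing the first,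
cannot occur in a group which is not soluble. -/
theorem Full.false (D : Full G a b c) : False := by
  by_cases hb : 2 ∣ b
  · exact D.false_of_invol_comm fun t ht => D.invol_comm_of_two_dvd hb ht
  have h2 : 2 ∣ c :=
    ((Nat.Prime.dvd_mul Nat.prime_two).1 (D.card_eq ▸ two_dvd_card_of_not_solvable D.ns)).resolve_left hb
  have htop : (⊤ : Subgroup G) ≠ ⊥ := fun h => D.ns (Group.isSolvable_of_top_eq_bot G h)
  obtain ⟨M, hM, hM0, -, hmin⟩ := H35.exists_minimal_normal_le (⊤ : Subgroup G) htop
  haveI := hM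
  obtain ⟨r, hr, hab, hMr⟩ :=
    minimal_normal_elementary M hM0 (D.minimal_solvable h2 M hmin) hmin
  haveI := Fact.mk hr
  have hrd : r ∣ b * c := D.card_eq ▸
    ((hMr.card_eq_or_dvd).resolve_left fun h => hM0 (Subgroup.card_eq_one.1 h)).trans
      M.card_subgroup_dvd_card
  rcases (Nat.Prime.dvd_mul hr).1 hrd with h | h
  · exact D.b_normal_false h2 M hM0 hab hr hMr h
  · exact D.c_normal_false h2 M hM0 hab hr hMr h

/-- Three class sizes, one a proper multiple of another, force solubility. -/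
theorem div_solvable : ∀ (n : ℕ) (G : Type u) [Group G] [Finite G] (a b c : ℕ),
    Nat.card G = n → Div G a b c → Group.IsSolvable G := by
  intro n
  induction n using Nat.strong_induction_on with
  | _ n ih =>
  intro G _ _ a b c hn D
  by_contra hns
  by_cases hca : ∀ r : ℕ, r.Prime → r ∣ c → r ∣ a
  · exact Full.false (G := G) ⟨D, hca, hns⟩
  push Not at hca
  obtain ⟨s, hs, hsc, hsa⟩ := hca
  obtain ⟨p, hp, hpb⟩ := Nat.exists_prime_and_dvd D.one_lt_b.ne'
  obtain ⟨xb, -, hxb⟩ := D.eb
  obtain ⟨xc, -, hxc⟩ := D.ec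
  have hpc : ¬ p ∣ c := fun h => hp.ne_one (Nat.eq_one_of_dvd_coprimes D.coprime hpb h)
  have hps : ∀ x : G, ¬ p * s ∣ (centralizer ({x} : Set G)).index := by
    intro x hd
    rcases eq_or_ne x 1 with rfl | hx
    · rw [H27.index_cent_one] at hd
      exact hp.not_dvd_one ((dvd_mul_right p s).trans hd)
    rcases D.mem x hx with e | e | e
    · exact hsa (e ▸ (dvd_mul_left s p).trans hd)
    · exact hsa ((e ▸ (dvd_mul_left s p).trans hd : s ∣ b).trans D.hab)
    · exact hpc (e ▸ (dvd_mul_right p s).trans hd)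
  have key : ∀ q : ℕ, q.Prime → q ∣ Nat.card G → Cfsg.HasNormalPComplement q G → False := by
    intro q hq hqG hN
    haveI := Fact.mk hq
    obtain ⟨P, N, hNn, hc⟩ := hN
    haveI := hNn
    have hidx : N.index = Nat.card (P : Subgroup G) := hc.symm.index_eq_card
    have hcard : Nat.card N * N.index = Nat.card G := N.card_mul_index
    have hco : Nat.Coprime (Nat.card N) N.index := by
      rw [hidx, ← hc.index_eq_card]
      exact P.card_coprime_index.symm
    have hlt : Nat.card N < n := by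
      rw [← hn, ← hcard]
      refine lt_mul_of_one_lt_right Nat.card_pos ?_
      rw [hidx]
      exact hq.one_lt.trans_le (Nat.le_of_dvd Nat.card_pos (by simpa using pow_dvd_sylow_card P (k := 1) (by simpa using hqG)))
    refine hns (isSolvable_of_pGroup_quotient (p := q) N ?_ (hidx.trans P.card_eq_multiplicity))
    by_contra hNs
    set a' := Nat.gcd a (Nat.card N)
    set b' := Nat.gcd b (Nat.card N)
    set c' := Nat.gcd c (Nat.card N)
    have hmem : ∀ x : N, x ≠ 1 → cls x = a' ∨ cls x = b' ∨ cls x = c' := by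
      intro x hx
      rw [cls_normal_hall N hco x]
      rcases D.mem (x : G) fun e => hx (Subtype.ext e) with e | e | e <;> simp [e, a', b', c']
    have hnc : ∀ x : N, x ∉ center N → x ≠ 1 := fun x hx e => hx (e ▸ one_mem _)
    have htwo : ∀ s t : ℕ, (∀ x : N, x ≠ 1 → x ∉ center N → cls x = s ∨ cls x = t) → False :=
      fun s t h => hNs (isSolvable_of_two fun x hx => h x (hnc x hx) hx)
    have hne_one : ∀ x : N, x ∉ center N → cls x ≠ 1 := fun x hx h => hx (mem_center_iff_cls.1 h)
    have h1a : a' ≠ 1 := fun e => htwo b' c' fun x hx hx' =>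
      (hmem x hx).resolve_left fun h => hne_one x hx' (h.trans e)
    have h1b : b' ≠ 1 := fun e => htwo a' c' fun x hx hx' =>
      (hmem x hx).imp_right fun h => h.resolve_left fun h => hne_one x hx' (h.trans e)
    have h1c : c' ≠ 1 := fun e => htwo a' b' fun x hx hx' =>
      (hmem x hx).imp_right fun h => h.resolve_right fun h => hne_one x hx' (h.trans e)
    refine hNs (ih (Nat.card N) hlt N a' b' c' rfl
      { center_eq := (Subgroup.eq_bot_iff_forall _).2 fun x hx => ?_
        hab := Nat.dvd_gcd ((Nat.gcd_dvd_left _ _).trans D.hab) (Nat.gcd_dvd_right _ _)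
        ne_ab := fun e => htwo b' c' fun x hx _ =>
          (hmem x hx).elim (fun h => Or.inl (h.trans e)) id
        ne_ac := fun e => htwo b' c' fun x hx _ =>
          (hmem x hx).elim (fun h => Or.inr (h.trans e)) id
        ne_bc := fun e => htwo a' c' fun x hx _ =>
          (hmem x hx).imp_right fun h => h.elim (fun h => h.trans e) id
        mem := hmem
        ea := ?_
        eb := ?_
        ec := ?_ })
    · by_contra hx1
      have h := mem_center_iff_cls.2 hx
      rcases hmem x hx1 with e | e | e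
      · exact h1a (e.symm.trans h)
      · exact h1b (e.symm.trans h)
      · exact h1c (e.symm.trans h)
    all_goals by_contra h
    all_goals push Not at h
    · exact htwo b' c' fun x hx _ => (hmem x hx).resolve_left (h x hx)
    · exact htwo a' c' fun x hx _ => (hmem x hx).imp_right fun h' => h'.resolve_left (h x hx)
    · exact htwo a' b' fun x hx _ => (hmem x hx).imp_right fun h' => h'.resolve_right (h x hx)
  rcases Cfsg.Agent.S4160.result (G := G) p s hp hs (fun e => hpc (e ▸ hsc))
    ⟨xb, hpb.trans hxb.symm.dvd⟩ ⟨xc, hsc.trans hxc.symm.dvd⟩ hps with h | h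
  · exact key p hp (hpb.trans (hxb ▸ H27.index_cent_dvd_card xb)) h
  · exact key s hs (hsc.trans (hxc ▸ H27.index_cent_dvd_card xc)) h

/-- No class size other than one properly divides another. -/
theorem invol_comm_of_noDiv (hns : ¬ Group.IsSolvable G)
    (hd : ∀ x y : G, x ≠ 1 → y ≠ 1 → cls x ∣ cls y → cls x = cls y) {t : G} (ht : orderOf t = 2) :
    IsMulCommutative (Cz t) := by
  haveI : Fact (Nat.Prime 2) := ⟨Nat.prime_two⟩
  have eqle : ∀ x y : G, x ≠ 1 → y ≠ 1 → Cz x ≤ Cz y → Cz x = Cz y := fun x y hx hy hle =>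
    Cz_eq_of_cls hle (hd y x hy hx (cls_dvd hle)).symm
  have pair : ∀ u v : G, u ≠ 1 → v ≠ 1 → Commute u v →
      Nat.Coprime (orderOf u) (orderOf v) → Cz u = Cz v := by
    intro u v hu hv huv hco
    have hm := Cz_mul_eq huv hco
    rw [← eqle _ _ (mul_ne_one huv hco hu) hu (hm.le.trans inf_le_left),
      ← eqle _ _ (mul_ne_one huv hco hu) hv (hm.le.trans inf_le_right)]
  have cop : ∀ (p k : ℕ) (x : G), p.Prime → orderOf x = p ^ k → x ≠ 1 →
      IsMulCommutative (Cz x) ∨ IsPGroup p (Cz x) := fun p k x hp hx hx1 =>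
    comm_or_pGroup hp hx hx1 fun u v _ _ => pair u v
  have ht1 : t ≠ 1 := ne_one_of_prime Nat.prime_two ht
  rcases cop 2 1 t Nat.prime_two (ht.trans (pow_one 2).symm) ht1 with hc | hc
  · exact hc
  by_cases hS : ∃ P : Sylow 2 G, ¬ IsMulCommutative (P : Subgroup G)
  swap
  · push Not at hS
    obtain ⟨Q, hQ⟩ := hc.exists_le_sylow
    exact ⟨⟨fun u v => Subtype.ext
      (congrArg Subtype.val ((hS Q).is_comm.comm ⟨u, hQ u.2⟩ ⟨v, hQ v.2⟩) : _)⟩⟩
  exfalso
  obtain ⟨P, hP⟩ := hS
  obtain ⟨z, hzP, hz, hle⟩ := exists_central_of_sylow (two_dvd_card_of_not_solvable hns) P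
  have hz1 := ne_one_of_prime Nat.prime_two hz
  have hznc : ¬ IsMulCommutative (Cz z) := fun hc =>
    hP ⟨⟨fun u v => Subtype.ext (mem_Cz.1 (mem_Cz_of_comm hc (hle u.2) (hle v.2)))⟩⟩
  have hz2 : IsPGroup 2 (Cz z) :=
    (cop 2 1 z Nat.prime_two (hz.trans (pow_one 2).symm) hz1).resolve_left hznc
  have hzeq : Cz z = (P : Subgroup G) := P.is_maximal' hz2 hle
  have key : ∀ w ∈ (P : Subgroup G), w ≠ 1 → cc w = Nat.card (P : Subgroup G) := by
    intro w hw hw1
    obtain ⟨j, hj⟩ := (IsPGroup.iff_orderOf.1 P.isPGroup') ⟨w, hw⟩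
    rw [Subgroup.orderOf_mk] at hj
    have hzw : z ∈ Cz w := mem_Cz_comm.1 (hle hw)
    rcases cop 2 j w Nat.prime_two hj hw1 with hc | hc
    · have hle' : Cz w ≤ Cz z := fun g hg => mem_Cz_of_comm hc hg hzw
      exact absurd (eqle w z hw1 hz1 hle' ▸ hc) hznc
    · obtain ⟨Q, hQ⟩ := hc.exists_le_sylow
      obtain ⟨m, hm⟩ : cc w ∣ cc z := by
        rw [show cc z = Nat.card (P : Subgroup G) from by rw [← hzeq], sylow_card_eq P Q]
        exact Subgroup.card_dvd_of_le hQ
      have e : cls z ∣ cls w := by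
        refine ⟨m, Nat.eq_of_mul_eq_mul_left (cc_pos w) ?_⟩
        calc cc w * cls w = cc z * cls z := (cc_mul_cls w).trans (cc_mul_cls z).symm
          _ = cc w * (cls z * m) := by rw [hm]; ring
      have h1 := hd z w hz1 hw1 e
      have h2 := cc_mul_cls w
      rw [← h1, ← cc_mul_cls z] at h2
      rw [← hzeq]
      exact Nat.eq_of_mul_eq_mul_right (cls_pos z) h2
  have hyp : H3.TwoCentral.Hyp G := by
    intro x hx
    rcases eq_or_ne x 1 with rfl | hx1
    · exact ⟨P, fun g _ => mem_Cz.2 (by simp)⟩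
    obtain ⟨k, hk⟩ := hx
    obtain ⟨j, -, hj⟩ := (Nat.dvd_prime_pow Nat.prime_two).1 (orderOf_dvd_of_pow_eq_one hk)
    obtain ⟨Q, hQ⟩ := exists_sylow_mem (x := x) hj
    obtain ⟨g, hg⟩ := MulAction.exists_smul_eq G Q P
    have hgx : g * x * g⁻¹ ∈ (P : Subgroup G) := by
      rw [← hg, Sylow.coe_subgroup_smul]
      exact ⟨x, hQ, rfl⟩
    have hc := key _ hgx (fun e => hx1 (conj_eq_one_iff.1 e))
    rw [cc_conj] at hc
    exact ⟨Sylow.ofCard (Cz x) (hc.trans P.card_eq_multiplicity), le_rfl⟩
  exact hP (H3.TwoCentral.isMulCommutative_of_hyp hyp P)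

end H87.ThreeSize
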